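/-
Isolated p-elements, and elements centralised by all local normalisers.
-/
import Cfsg.Prelude.Def_IsolatedElements
import Cfsg.Prelude.Def_TwoFusion
import Cfsg.Prelude.Def_Transfer
import Cfsg.Agent.Lib.LocalEven.SylowAux
import Cfsg.Agent.Lib.Transfer.Basic
import Cfsg.Agent.Lib.CharP.AxB

set_option autoImplicit false
set_option linter.unusedSectionVars false

namespace Cfsg.Agent.IsolatedP

variable {G : Type*} [Group G] [Finite G] {p : ℕ} [Fact p.Prime]

/-- Frattini argument, elementwise. -/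
theorem exists_mul_normalizer {N : Subgroup G} (T : Sylow p ↥N) {h : G}
    (hh : h ∈ Subgroup.normalizer (N : Set G)) :
    ∃ n ∈ N, n⁻¹ * h ∈ Subgroup.normalizer (((T : Subgroup ↥N).map N.subtype : Subgroup G) : Set G) := by
  set T0 := (T : Subgroup ↥N).map N.subtype with hT0
  have hle : T0.map (MulAut.conj h).toMonoidHom ≤ N := by
    intro y hy
    rw [LEBasic.mem_map_conj] at hy
    have h1 : h⁻¹ * y * h ∈ N := Subgroup.map_subtype_le _ hy
    have h2 := (Subgroup.mem_normalizer_iff.1 hh (h⁻¹ * y * h)).1 h1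
    simpa [mul_assoc] using h2
  obtain ⟨m, hm, hmle⟩ := LESylow.exists_conj_le_of_le hle
    (LEBasic.isPGroup_map_conj (T.isPGroup'.map N.subtype) h) T
  rw [LEBasic.map_conj_map_conj] at hmle
  have heq : T0.map (MulAut.conj (m * h)).toMonoidHom = T0 :=
    Subgroup.eq_of_le_of_card_ge hmle (by rw [LEBasic.card_map_conj])
  exact ⟨m⁻¹, inv_mem hm, by rw [inv_inv]; exact LEBasic.map_conj_eq_iff_mem_normalizer.1 heq⟩

theorem isPGroup_zpowers {x : G} (hx : ∃ k : ℕ, orderOf x = p ^ k) :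
    IsPGroup p ↥(Subgroup.zpowers x) := hx.elim fun _ h => LESylow.isPGroup_zpowers h

variable {x : G}

theorem le_centralizer (hiso : Cfsg.IsIsolated x) {R : Subgroup G} (hR : IsPGroup p ↥R)
    (hxR : x ∈ R) : R ≤ Subgroup.centralizer ({x} : Set G) := by
  have key : R ⊓ Subgroup.centralizer ({x} : Set G) = R := by
    refine LESylow.eq_of_normalizer_inf_le hR inf_le_left ?_
    rintro n ⟨hnR, hn⟩
    refine ⟨hnR, ?_⟩
    have h1 : x ∈ R ⊓ Subgroup.centralizer ({x} : Set G) :=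
      ⟨hxR, Subgroup.mem_centralizer_singleton_iff.2 rfl⟩
    have h2 := (Subgroup.mem_normalizer_iff.1 hn x).1 h1
    have h3 : n * x * n⁻¹ * x = x * (n * x * n⁻¹) := Subgroup.mem_centralizer_singleton_iff.1 h2.2
    exact Subgroup.mem_centralizer_singleton_iff.2 (mul_inv_eq_iff_eq_mul.1 (hiso n h3.symm))
  exact fun y hy => (key.symm.le hy).2

theorem commute_of_mem (hiso : Cfsg.IsIsolated x) {R : Subgroup G} (hR : IsPGroup p ↥R)
    (hxR : x ∈ R) {y : G} (hy : y ∈ R) : y * x = x * y :=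
  Subgroup.mem_centralizer_singleton_iff.1 (le_centralizer hiso hR hxR hy)

theorem eq_of_conj_mem (hiso : Cfsg.IsIsolated x) {R : Subgroup G} (hR : IsPGroup p ↥R)
    (hxR : x ∈ R) {g : G} (hg : g * x * g⁻¹ ∈ R) : g * x * g⁻¹ = x :=
  hiso g (commute_of_mem hiso hR hxR hg).symm

theorem normalizer_le (hiso : Cfsg.IsIsolated x) {R : Subgroup G} (hR : IsPGroup p ↥R)
    (hxR : x ∈ R) : Subgroup.normalizer (R : Set G) ≤ Subgroup.centralizer ({x} : Set G) :=
  fun n hn => Subgroup.mem_centralizer_singleton_iff.2 (mul_inv_eq_iff_eq_mul.1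
    (eq_of_conj_mem hiso hR hxR ((Subgroup.mem_normalizer_iff.1 hn x).1 hxR)))

theorem sup_centralizer_eq (hx : ∃ k : ℕ, orderOf x = p ^ k) (hiso : Cfsg.IsIsolated x)
    {H N : Subgroup G} (hNH : N ≤ H) (hHN : H ≤ Subgroup.normalizer (N : Set G)) (hxN : x ∈ N) :
    N ⊔ (H ⊓ Subgroup.centralizer ({x} : Set G)) = H := by
  refine le_antisymm (sup_le hNH inf_le_left) fun h hh => ?_
  obtain ⟨T, hT⟩ := ((isPGroup_zpowers hx).comap_of_injective N.subtype
    N.subtype_injective).exists_le_sylow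
  have hxT : x ∈ (T : Subgroup ↥N).map N.subtype :=
    ⟨⟨x, hxN⟩, hT (Subgroup.mem_zpowers x), rfl⟩
  obtain ⟨n, hn, hnh⟩ := exists_mul_normalizer T (hHN hh)
  have h1 := normalizer_le hiso (T.isPGroup'.map N.subtype) hxT hnh
  rw [show h = n * (n⁻¹ * h) by group]
  exact Subgroup.mul_mem_sup hn (Subgroup.mem_inf.2 ⟨mul_mem (inv_mem (hNH hn)) hh, h1⟩)

/-- Conjugation of an element of a subgroup containing `x` into a `p`-subgroup containing `x`. -/
theorem exists_conj_common {H : Subgroup G} {y : G} (hx : ∃ k : ℕ, orderOf x = p ^ k)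
    (hy : ∃ k : ℕ, orderOf y = p ^ k) (hxH : x ∈ H) (hyH : y ∈ H) :
    ∃ h ∈ H, ∃ R : Subgroup G, IsPGroup p ↥R ∧ x ∈ R ∧ h * y * h⁻¹ ∈ R := by
  obtain ⟨T, hT⟩ := ((isPGroup_zpowers hx).comap_of_injective H.subtype
    H.subtype_injective).exists_le_sylow
  obtain ⟨h, hh, hle⟩ := LESylow.exists_conj_le_of_le (Subgroup.zpowers_le.2 hyH)
    (isPGroup_zpowers hy) T
  exact ⟨h, hh, _, T.isPGroup'.map H.subtype, ⟨⟨x, hxH⟩, hT (Subgroup.mem_zpowers x), rfl⟩,
    hle ⟨y, Subgroup.mem_zpowers y, rfl⟩⟩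

theorem orderOf_conj' (g y : G) : orderOf (g * y * g⁻¹) = orderOf y :=
  orderOf_injective (MulAut.conj g).toMonoidHom (MulAut.conj g).injective y

theorem isStronglyClosed (hx : ∃ k : ℕ, orderOf x = p ^ k) (hiso : Cfsg.IsIsolated x)
    {P : Subgroup G} (hP : IsPGroup p ↥P) (hxP : x ∈ P) :
    Cfsg.IsStronglyClosed (Subgroup.zpowers x) P := by
  refine ⟨Subgroup.zpowers_le.2 hxP, ?_⟩
  rintro _ ⟨i, rfl⟩ g hz
  set z := g * x ^ i * g⁻¹ with hzdef
  have hxz : x ∈ Subgroup.centralizer ({z} : Set G) :=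
    Subgroup.mem_centralizer_singleton_iff.2 (commute_of_mem hiso hP hxP hz).symm
  have hgz : g * x * g⁻¹ ∈ Subgroup.centralizer ({z} : Set G) := by
    rw [Subgroup.mem_centralizer_singleton_iff, hzdef]; group
  obtain ⟨c, hc, R, hR, hxR, hcR⟩ :=
    exists_conj_common hx (y := g * x * g⁻¹) (by simpa [orderOf_conj'] using hx) hxz hgz
  have e1 : c * (g * x * g⁻¹) * c⁻¹ = (c * g) * x * (c * g)⁻¹ := by group
  rw [e1] at hcR
  have h1 := eq_of_conj_mem hiso hR hxR hcR
  have h2 : c * z * c⁻¹ = x ^ i := by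
    calc c * z * c⁻¹ = ((c * g) * x * (c * g)⁻¹) ^ i := by rw [conj_zpow, hzdef]; group
      _ = x ^ i := by rw [h1]
  have h3 : c * z * c⁻¹ = z := by
    rw [Subgroup.mem_centralizer_singleton_iff.1 hc, mul_inv_cancel_right]
  exact ⟨i, (h2.symm.trans h3)⟩

theorem isWeaklyClosed (hiso : Cfsg.IsIsolated x) {P : Subgroup G} (hP : IsPGroup p ↥P)
    (hxP : x ∈ P) : Cfsg.IsWeaklyClosed (Subgroup.zpowers x) P := by
  refine ⟨Subgroup.zpowers_le.2 hxP, fun g hg => ?_⟩
  have h1 : g * x * g⁻¹ ∈ P := hg ⟨x, Subgroup.mem_zpowers x, rfl⟩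
  rw [MonoidHom.map_zpowers]
  congr 1
  exact eq_of_conj_mem hiso hP hxP h1

theorem mk_isIsolated (hx : ∃ k : ℕ, orderOf x = p ^ k) (hiso : Cfsg.IsIsolated x) (N : Subgroup G)
    [N.Normal] : Cfsg.IsIsolated (QuotientGroup.mk x : G ⧸ N) := by
  intro g' hcomm
  obtain ⟨g, rfl⟩ := QuotientGroup.mk_surjective g'
  set y := g * x * g⁻¹ with hy
  have hyy : (QuotientGroup.mk g : G ⧸ N) * QuotientGroup.mk x * (QuotientGroup.mk g)⁻¹ =
      QuotientGroup.mk y := by rw [hy]; rfl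
  rw [hyy] at hcomm ⊢
  set H := (Subgroup.centralizer ({(QuotientGroup.mk y : G ⧸ N)} : Set (G ⧸ N))).comap
    (QuotientGroup.mk' N) with hH
  have hxH : x ∈ H := Subgroup.mem_centralizer_singleton_iff.2 hcomm
  have hyH : y ∈ H := Subgroup.mem_centralizer_singleton_iff.2 rfl
  obtain ⟨h, hh, R, hR, hxR, hhR⟩ :=
    exists_conj_common hx (y := y) (by simpa [hy, orderOf_conj'] using hx) hxH hyH
  have e1 : h * y * h⁻¹ = (h * g) * x * (h * g)⁻¹ := by rw [hy]; group
  rw [e1] at hhR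
  have h1 : h * y * h⁻¹ = x := e1.trans (eq_of_conj_mem hiso hR hxR hhR)
  have h2 : (QuotientGroup.mk h : G ⧸ N) * QuotientGroup.mk y =
      QuotientGroup.mk y * QuotientGroup.mk h := Subgroup.mem_centralizer_singleton_iff.1 hh
  calc (QuotientGroup.mk y : G ⧸ N)
      = QuotientGroup.mk h * QuotientGroup.mk y * (QuotientGroup.mk h)⁻¹ := by
        rw [h2, mul_inv_cancel_right]
    _ = QuotientGroup.mk (h * y * h⁻¹) := rfl
    _ = QuotientGroup.mk x := by rw [h1]

/-- A `p'`-element acting on a cyclic `p`-group and fixing a nontrivial element acts trivially. -/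
theorem commute_of_cyclic {P : Subgroup G} (hP : IsPGroup p ↥P) [IsCyclic ↥P] {b : G}
    (hb : b ∈ Subgroup.normalizer (P : Set G)) (hbp : (orderOf b).Coprime p)
    (hxP : x ∈ P) (hx1 : x ≠ 1) (hbx : b * x = x * b) : ∀ u ∈ P, b * u = u * b := by
  obtain ⟨⟨u₀, hu₀⟩, hgen⟩ := IsCyclic.exists_generator (α := ↥P)
  have hgen' : ∀ y ∈ P, y ∈ Subgroup.zpowers u₀ := fun y hy => by
    obtain ⟨i, hi⟩ := hgen ⟨y, hy⟩
    exact ⟨i, congrArg Subtype.val hi⟩
  suffices hfix : b * u₀ = u₀ * b by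
    intro u hu
    obtain ⟨i, rfl⟩ := hgen' u hu
    exact (Commute.zpow_right (hfix : Commute b u₀) i)
  -- an element of order `p` fixed by `b`
  obtain ⟨z, hzx, hzp⟩ := LESylow.exists_orderOf_eq (p := p)
    (LESylow.dvd_card_of_ne_bot (hP.to_le (Subgroup.zpowers_le.2 hxP))
      (Subgroup.zpowers_ne_bot.2 hx1))
  have hbz : b * z = z * b := by
    obtain ⟨i, rfl⟩ := hzx
    exact (Commute.zpow_right (hbx : Commute b x) i)
  have hfixp : ∀ f ∈ P, f ^ p = 1 → b * f = f * b := by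
    intro f hf hfp
    rcases eq_or_ne f 1 with rfl | hf1
    · simp
    have hford : orderOf f = p := orderOf_eq_prime hfp hf1
    have hle : Subgroup.zpowers f ≤ P := Subgroup.zpowers_le.2 hf
    have hzle : Subgroup.zpowers z ≤ P := Subgroup.zpowers_le.2 ((Subgroup.zpowers_le.2 hxP) hzx)
    obtain ⟨n, hn⟩ : ∃ n, orderOf u₀ = p * n := by
      have h := orderOf_dvd_natCard (⟨f, hgen' f hf⟩ : Subgroup.zpowers u₀)
      rw [Subgroup.orderOf_mk, hford, Nat.card_zpowers] at h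
      exact h
    have hsub : ∀ w ∈ P, w ^ p = 1 → w ∈ Subgroup.zpowers (u₀ ^ n) := by
      intro w hw hwp
      obtain ⟨i, rfl⟩ := hgen' w hw
      rw [← zpow_natCast, ← zpow_mul, ← orderOf_dvd_iff_zpow_eq_one, hn] at hwp
      push_cast at hwp
      rw [mul_comm i] at hwp
      obtain ⟨d, hd⟩ := Int.dvd_of_mul_dvd_mul_left
        (by exact_mod_cast (Fact.out : p.Prime).ne_zero) hwp
      exact ⟨d, by show (u₀ ^ n) ^ d = u₀ ^ i; rw [hd, zpow_mul, zpow_natCast]⟩
    have hcard : Nat.card (Subgroup.zpowers (u₀ ^ n)) ≤ p := by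
      rw [Nat.card_zpowers]
      exact Nat.le_of_dvd (Fact.out : p.Prime).pos (orderOf_dvd_of_pow_eq_one (by
        rw [← pow_mul, mul_comm, ← hn, pow_orderOf_eq_one]))
    have hz2 : z ∈ Subgroup.zpowers (u₀ ^ n) :=
      hsub z ((Subgroup.zpowers_le.2 hxP) hzx) (hzp ▸ pow_orderOf_eq_one z)
    have heq : Subgroup.zpowers z = Subgroup.zpowers (u₀ ^ n) :=
      Subgroup.eq_of_le_of_card_ge (Subgroup.zpowers_le.2 hz2)
        (by rwa [Nat.card_zpowers z, hzp])
    obtain ⟨i, hi⟩ := heq.ge (hsub f hf hfp)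
    rw [← show z ^ i = f from hi]
    exact (Commute.zpow_right (hbz : Commute b z) i)
  have main : ∀ j : ℕ, b * u₀ ^ p ^ j = u₀ ^ p ^ j * b → b * u₀ = u₀ * b := by
    intro j
    induction j with
    | zero => simp
    | succ j ih =>
      intro hj
      apply ih
      set u := u₀ ^ p ^ j with hu
      have huP : u ∈ P := pow_mem hu₀ _
      have hcP : b * u * b⁻¹ ∈ P := (Subgroup.mem_normalizer_iff.1 hb u).1 huP
      set f := u⁻¹ * (b * u * b⁻¹) with hf
      have hfP : f ∈ P := mul_mem (inv_mem huP) hcP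
      have hcomm : Commute u⁻¹ (b * u * b⁻¹) := by
        obtain ⟨i, hi⟩ := hgen' _ (inv_mem huP)
        obtain ⟨l, hl⟩ := hgen' _ hcP
        rw [← hi, ← hl]; exact Commute.zpow_zpow (Commute.refl _) i l
      have hfp : f ^ p = 1 := by
        rw [hf, hcomm.mul_pow, conj_pow, inv_pow, hu, ← pow_mul, ← pow_succ, hj,
          mul_inv_cancel_right, inv_mul_cancel]
      have hbf : b * f = f * b := hfixp f hfP hfp
      have h2 : f = 1 := AxB.fixed_of_conj_eq_mul (q := u) (n := orderOf b) hbf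
        (by rw [hf]; group) (pow_orderOf_eq_one b)
        (AxB.coprime_orderOf_of_mem hP hfP hbp.symm)
      rw [hf, inv_mul_eq_one] at h2
      exact mul_inv_eq_iff_eq_mul.1 h2.symm
  obtain ⟨k, hk⟩ := hP ⟨u₀, hu₀⟩
  refine main k ?_
  have : u₀ ^ p ^ k = 1 := congrArg Subtype.val hk
  rw [this]; simp

end Cfsg.Agent.IsolatedP
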