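/-
p-nilpotency from H-subgroups of one fixed order, p the smallest prime divisor.
-/
import Cfsg.Agent.Lib.LocalEven.OmegaFour
import Cfsg.Agent.Lib.Transfer.Alperin
import Cfsg.Agent.Lib.Transfer.Tate
import Cfsg.Agent.Lib.Solvable.Coprime
import Cfsg.Agent.Lib.CentrallyLarge.Invariant
import Cfsg.Agent.Lib.Solvable.NilpotentFrattini
import Mathlib.GroupTheory.SpecificGroups.Cyclic

namespace Cfsg.Agent.HSub

open Subgroup
open scoped Pointwise

variable {G : Type*} [Group G] [Finite G] {p : ℕ}

theorem relIndex_sup_right' {Q M : Subgroup G} (h : Q ≤ normalizer (M : Set G)) :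
    M.relIndex (Q ⊔ M) = M.relIndex Q := by
  refine Nat.eq_of_mul_eq_mul_left (Nat.mul_pos (Nat.card_pos (α := M))
    (Nat.card_pos (α := (M ⊓ Q : Subgroup G)))) ?_
  have h1 := PBasic.card_mul_relIndex (le_sup_right : M ≤ Q ⊔ M)
  have h2 := PBasic.card_mul_relIndex (inf_le_right : M ⊓ Q ≤ Q)
  rw [inf_relIndex_right] at h2
  have h3 := SolvBasic.card_sup_mul_card_inf h
  rw [sup_comm M Q] at h3
  calc Nat.card M * Nat.card (M ⊓ Q : Subgroup G) * M.relIndex (Q ⊔ M)
      = Nat.card M * M.relIndex (Q ⊔ M) * Nat.card (M ⊓ Q : Subgroup G) := by ring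
    _ = Nat.card M * Nat.card Q := by rw [h1, h3]
    _ = _ := by rw [← h2]; ring

theorem commutator_le_frattini' [Fact p.Prime] {P : Subgroup G} (hP : IsPGroup p P) :
    commutator P ≤ frattini P :=
  have := hP.isNilpotent
  SolvStruct.commutator_le_frattini P

theorem centralizes_cyclic {A : Subgroup G} [IsCyclic A] {g : G} (hg : g ∈ normalizer (A : Set G))
    (hc : (orderOf g).Coprime (Nat.card A).totient) : g ∈ centralizer (A : Set G) := by
  set ψ := normalizerMonoidHom A
  have h1 : orderOf (ψ ⟨g, hg⟩) ∣ orderOf g := by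
    have := orderOf_map_dvd ψ ⟨g, hg⟩
    rwa [orderOf_mk] at this
  have h2 : orderOf (ψ ⟨g, hg⟩) ∣ (Nat.card A).totient := IsCyclic.card_mulAut A ▸ orderOf_dvd_natCard _
  have h3 : (⟨g, hg⟩ : normalizer (A : Set G)) ∈ ψ.ker :=
    MonoidHom.mem_ker.2 (orderOf_eq_one_iff.1 (Nat.eq_one_of_dvd_coprimes hc h1 h2))
  rwa [normalizerMonoidHom_ker, mem_subgroupOf] at h3

variable [Fact p.Prime]

/-- An element normalising `Q` and a subgroup of index `p` of `Q` fixes the quotient. -/
theorem fix_mod {Q M : Subgroup G} (hMQ : M ≤ Q) (hQM : Q ≤ normalizer (M : Set G))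
    (hidx : M.relIndex Q = p) {n : G} (hnQ : n ∈ normalizer (Q : Set G))
    (hnM : n ∈ normalizer (M : Set G)) (hc : (orderOf n).Coprime (p - 1)) :
    ∀ z ∈ Q, z⁻¹ * (n * z * n⁻¹) ∈ M := by
  intro z hz
  set H := normalizer (Q : Set G) ⊓ normalizer (M : Set G) with hH
  have hQH : Q ≤ H := le_inf le_normalizer hQM
  have hMn : (M.subgroupOf H).Normal := normal_subgroupOf_of_le_normalizer inf_le_right
  set f := QuotientGroup.mk' (M.subgroupOf H) with hf
  set A := (Q.subgroupOf H).map f with hA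
  have hAcard : Nat.card A = p := by
    rw [hA, ← relIndex_ker, hf, QuotientGroup.ker_mk', ← hidx, subgroupOf, relIndex_comap,
      subgroupOf_map_subtype, inf_of_le_left hQH]
  have : IsCyclic A := isCyclic_of_prime_card hAcard
  have hnH : n ∈ H := ⟨hnQ, hnM⟩
  have hAn : A.Normal :=
    Normal.map (normal_subgroupOf_of_le_normalizer inf_le_left) f (QuotientGroup.mk'_surjective _)
  have h := centralizes_cyclic (A := A) (g := f ⟨n, hnH⟩)
    ((normalizer_eq_top_iff.2 hAn).ge (mem_top _)) (by
      rw [hAcard, Nat.totient_prime Fact.out]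
      exact Nat.Coprime.coprime_dvd_left ((orderOf_map_dvd f _).trans (orderOf_mk n hnH).dvd) hc)
  have h2 := mem_centralizer_iff.1 h (f ⟨z, hQH hz⟩) ⟨⟨z, hQH hz⟩, hz, rfl⟩
  rw [← map_mul, ← map_mul] at h2
  have h3 : ((⟨z, hQH hz⟩ : H) * ⟨n, hnH⟩)⁻¹ * (⟨n, hnH⟩ * ⟨z, hQH hz⟩) ∈ M.subgroupOf H :=
    QuotientGroup.eq.1 h2
  rw [mem_subgroupOf] at h3
  have h4 : (z * n)⁻¹ * (n * z) ∈ M := h3
  have := CLarge.conj_mem hnM h4
  simpa [mul_assoc] using this

/-- A `p'`-element fixing all subgroups of one intermediate order of a `p`-group centralises it. -/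
theorem centralizes_of_fix {Q : Subgroup G} (hQ : IsPGroup p Q) {x : G}
    (hx : x ∈ normalizer (Q : Set G)) (hxp : (orderOf x).Coprime p)
    (hxp1 : (orderOf x).Coprime (p - 1)) {k : ℕ} (hk : 1 ≤ k) (hkQ : p ^ k < Nat.card Q)
    (hE : ∀ E : Subgroup G, E ≤ Q → (Nat.card E = p ^ k ∨ (p = 2 ∧ k = 1 ∧ Nat.card E = 4)) →
      x ∈ normalizer (E : Set G)) :
    x ∈ centralizer (Q : Set G) := by
  have hp : p.Prime := Fact.out
  obtain ⟨m, hm⟩ := hQ.exists_card_eq
  have hkm : k + 1 ≤ m := by
    rw [hm] at hkQ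
    exact (Nat.pow_lt_pow_iff_right hp.one_lt).1 hkQ
  have hcyc : ∀ E : Subgroup G, E ≤ Q → IsCyclic E → x ∈ normalizer (E : Set G) →
      x ∈ centralizer (E : Set G) := by
    intro E hEQ hcy hxE
    refine centralizes_cyclic hxE ?_
    obtain ⟨j, hj⟩ := (hQ.to_le hEQ).exists_card_eq
    rw [hj]
    rcases Nat.eq_zero_or_pos j with rfl | hj0
    · simp
    · rw [Nat.totient_prime_pow hp hj0]
      exact Nat.Coprime.mul_right (Nat.Coprime.pow_right _ hxp) hxp1
  -- every element lying in a member of the family is fixed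
  have hfam : ∀ E : Subgroup G, E ≤ Q → Nat.card E = p ^ k → ∀ y ∈ E, x * y = y * x := by
    intro E hEQ hEk y hy
    by_cases hcy : IsCyclic E
    · exact (mem_centralizer_iff.1 (hcyc E hEQ hcy (hE E hEQ (Or.inl hEk))) y hy).symm
    obtain ⟨F0, hF0, hEF0⟩ := Sylow.exists_subgroup_card_pow_succ (G := Q) (p := p) (n := k)
      (hm ▸ pow_dvd_pow p hkm) (H := E.subgroupOf Q)
      (by rw [Nat.card_congr (subgroupOfEquivOfLe hEQ).toEquiv, hEk])
    set F := F0.map Q.subtype with hF
    have hFQ : F ≤ Q := map_subtype_le _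
    have hFc : Nat.card F = p ^ (k + 1) := by rw [hF, card_map_of_injective Q.subtype_injective, hF0]
    have hEF : E ≤ F := fun e he => ⟨⟨e, hEQ he⟩, hEF0 (mem_subgroupOf.2 he), rfl⟩
    have hFp : IsPGroup p F := IsPGroup.of_card hFc
    have hmax : ∀ M : Subgroup F, IsCoatom M → Nat.card (M.map F.subtype) = p ^ k ∧ M.Normal := by
      intro M hM
      have hn := hFp.isNilpotent
      have hMn : M.Normal := (Group.normalizerCondition_of_isNilpotent (G := F)).normal_of_coatom M hM
      have hidx := hFp.index M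
      obtain ⟨j, hj⟩ := hidx
      have hj1 : j = 1 := by
        rcases Nat.lt_or_ge j 1 with h0 | h0
        · rw [show j = 0 by omega, pow_zero, index_eq_one] at hj; exact absurd hj hM.1
        · by_contra hne
          obtain ⟨j', rfl⟩ : ∃ j', j = j' + 2 := ⟨j - 2, by omega⟩
          obtain ⟨t, ht⟩ : ∃ t, Nat.card M = p ^ t := (hFp.to_subgroup M).exists_card_eq
          have h1 := M.card_mul_index
          rw [ht, hj, hFc, ← pow_add] at h1
          have h1' := Nat.pow_right_injective hp.two_le h1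
          obtain ⟨K, hK, hMK⟩ := Sylow.exists_subgroup_card_pow_succ (G := F) (p := p) (n := t)
            (hFc ▸ pow_dvd_pow p (by omega)) ht
          have hlt : M < K := lt_of_le_of_ne hMK fun e => by
            rw [← e, ht] at hK
            exact absurd (Nat.pow_right_injective hp.two_le hK) (by omega)
          have := hM.2 K hlt
          rw [this, card_top, hFc] at hK
          exact absurd (Nat.pow_right_injective hp.two_le hK) (by omega)
      have h1 := M.card_mul_index
      rw [hj, hj1, hFc, pow_one, pow_succ] at h1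
      exact ⟨by rw [card_map_of_injective F.subtype_injective]; exact Nat.eq_of_mul_eq_mul_right hp.pos h1, hMn⟩
    have hxmax : ∀ M : Subgroup F, IsCoatom M → x ∈ normalizer ((M.map F.subtype : Subgroup G) : Set G) :=
      fun M hM => hE _ ((map_subtype_le M).trans hFQ) (Or.inl (hmax M hM).1)
    have hxE : x ∈ normalizer (E : Set G) := hE E hEQ (Or.inl hEk)
    have hxF : x ∈ normalizer (F : Set G) := by
      obtain ⟨f, hfF, hfE⟩ := SetLike.exists_of_lt (lt_of_le_of_ne hEF fun e => by
        rw [e, hFc] at hEk; exact absurd (Nat.pow_right_injective hp.two_le hEk) (by omega))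
      have hne : zpowers (⟨f, hfF⟩ : F) ≠ ⊤ := fun htop => hcy (by
        have : IsCyclic F := ⟨⟨⟨f, hfF⟩, fun y => htop.ge (mem_top y)⟩⟩
        exact isCyclic_of_injective (inclusion hEF) (inclusion_injective hEF))
      obtain ⟨M, hM, hfM⟩ := (eq_top_or_exists_le_coatom _).resolve_left hne
      set M' := M.map F.subtype
      have hsup : E ⊔ M' = F := by
        refine eq_of_le_of_card_ge (sup_le hEF (map_subtype_le M)) ?_
        have hlt : Nat.card E < Nat.card (E ⊔ M' : Subgroup G) := by
          refine lt_of_le_of_ne (card_le_of_le le_sup_left) fun h => hfE ?_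
          exact (eq_of_le_of_card_ge le_sup_left h.ge).ge
            (mem_sup_right ⟨⟨f, hfF⟩, hfM (mem_zpowers _), rfl⟩)
        obtain ⟨j, hj⟩ := (hFp.to_le (sup_le hEF (map_subtype_le M))).exists_card_eq
        rw [hj, hEk] at hlt
        rw [hj, hFc]
        exact Nat.pow_le_pow_right hp.pos ((Nat.pow_lt_pow_iff_right hp.one_lt).1 hlt)
      have := CLarge.le_normalizer_sup' (S := zpowers x) (zpowers_le.2 hxE) (zpowers_le.2 (hxmax M hM))
        (mem_zpowers x)
      rwa [hsup] at this
    have hcent : zpowers x ≤ centralizer (F : Set G) := by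
      refine CoprimeAct.le_centralizer_of_frattini (zpowers_le.2 hxF) ?_ ?_
      · obtain ⟨j, hj⟩ := (hFp.to_subgroup (frattini F)).exists_card_eq
        rw [Nat.card_zpowers, hj]
        exact Nat.Coprime.pow_right _ hxp
      · intro a ha f hf
        have key : (⟨a * f * a⁻¹ * f⁻¹, F.mul_mem (CLarge.conj_mem (zpowers_le.2 hxF ha) hf) (F.inv_mem hf)⟩ : F)
            ∈ frattini F := by
          rw [frattini, Order.radical]
          simp only [mem_iInf]
          intro M hM
          obtain ⟨hMc, hMn⟩ := hmax M hM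
          have h1 := fix_mod (p := p) (map_subtype_le M) ((normal_subgroupOf_iff_le_normalizer
            (map_subtype_le M)).1 (by rwa [subgroupOf, comap_map_eq_self_of_injective F.subtype_injective]))
            ?_ (n := a) (zpowers_le.2 hxF ha) (zpowers_le.2 (hxmax M hM) ha) ?_ f⁻¹ (inv_mem hf)
          · have h2 : f * (a * f⁻¹ * a⁻¹) ∈ M.map F.subtype := by simpa using h1
            have h3 := inv_mem h2
            obtain ⟨w, hw, e⟩ := h3
            have : (w : F) = ⟨a * f * a⁻¹ * f⁻¹, F.mul_mem (CLarge.conj_mem (zpowers_le.2 hxF ha) hf) (F.inv_mem hf)⟩ :=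
              Subtype.ext (e.trans (by group))
            exact this ▸ hw
          · have h4 := PBasic.card_mul_relIndex (map_subtype_le M)
            rw [hMc, hFc, pow_succ] at h4
            exact Nat.eq_of_mul_eq_mul_left (pow_pos hp.pos k) h4
          · exact Nat.Coprime.coprime_dvd_left (orderOf_dvd_of_mem_zpowers ha) hxp1
        exact ⟨_, key, rfl⟩
    exact (mem_centralizer_iff.1 (zpowers_le.1 hcent) y (hEF hy)).symm
  have hmem : ∀ y ∈ Q, (y ^ p = 1 ∨ p = 2 ∧ y ^ 4 = 1) → x * y = y * x := by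
    intro y hy hyo
    obtain ⟨j, hj⟩ := (hQ.to_le (zpowers_le.2 hy)).exists_card_eq
    rcases le_or_gt j k with hjk | hjk
    · obtain ⟨E0, hE0, hyE0⟩ := Sylow.exists_subgroup_card_pow_prime_le (G := Q) p (n := j) (m := k)
        (hm ▸ pow_dvd_pow p (by omega)) ((zpowers y).subgroupOf Q)
        (by rw [Nat.card_congr (subgroupOfEquivOfLe (zpowers_le.2 hy)).toEquiv, hj]) hjk
      exact hfam (E0.map Q.subtype) (map_subtype_le _)
        (by rw [card_map_of_injective Q.subtype_injective, hE0]) y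
        ⟨⟨y, hy⟩, hyE0 (mem_subgroupOf.2 (mem_zpowers y)), rfl⟩
    · rw [Nat.card_zpowers] at hj
      have hd : orderOf y ∣ p ∨ p = 2 ∧ orderOf y ∣ 4 :=
        hyo.imp orderOf_dvd_of_pow_eq_one (And.imp_right orderOf_dvd_of_pow_eq_one)
      rcases hd with hd | ⟨h2, hd⟩
      · rw [hj] at hd
        have := Nat.le_of_dvd hp.pos hd
        have h3 : p ^ 2 ≤ p ^ j := Nat.pow_le_pow_right hp.pos (by omega)
        nlinarith [hp.two_le, sq p]
      · subst h2
        rw [hj, show (4 : ℕ) = 2 ^ 2 by norm_num] at hd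
        have := (Nat.pow_dvd_pow_iff_le_right one_lt_two).1 hd
        have hj2 : j = 2 := by omega
        have hk1 : k = 1 := by omega
        have hxz : x ∈ normalizer (zpowers y : Set G) := hE _ (zpowers_le.2 hy)
          (Or.inr ⟨rfl, hk1, by rw [Nat.card_zpowers, hj, hj2]; norm_num⟩)
        have hcz : IsCyclic (zpowers y) := inferInstance
        exact (mem_centralizer_iff.1 (hcyc _ (zpowers_le.2 hy) hcz hxz) y (mem_zpowers y)).symm
  exact mem_centralizer_iff.2 fun a ha => (LEOmega.commute_of_small hxp _ Q le_rfl hQ hx hmem a ha).symm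

theorem coatom_facts {P : Subgroup G} (hP : IsPGroup p P) {M : Subgroup P} (hM : IsCoatom M) :
    M.Normal ∧ M.index = p := by
  have hn := hP.isNilpotent
  refine ⟨(Group.normalizerCondition_of_isNilpotent (G := P)).normal_of_coatom M hM, ?_⟩
  have hp : p.Prime := Fact.out
  have hMn : M.Normal := (Group.normalizerCondition_of_isNilpotent (G := P)).normal_of_coatom M hM
  obtain ⟨j, hj⟩ := hP.index M
  have hj0 : j ≠ 0 := fun h => hM.1 (index_eq_one.1 (by rw [hj, h, pow_zero]))
  obtain ⟨y, hy⟩ := exists_prime_orderOf_dvd_card' (G := P ⧸ M) p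
    (by rw [← index_eq_card, hj]; exact dvd_pow_self p hj0)
  have htop : (zpowers y).comap (QuotientGroup.mk' M) = ⊤ := by
    refine hM.2 _ (lt_of_le_of_ne (fun z hz => ?_) fun h => ?_)
    · rw [mem_comap, QuotientGroup.mk'_apply, (QuotientGroup.eq_one_iff z).2 hz]; exact one_mem _
    · obtain ⟨w, rfl⟩ := QuotientGroup.mk'_surjective M y
      have hw : w ∈ M := h ▸ mem_zpowers _
      rw [QuotientGroup.mk'_apply, (QuotientGroup.eq_one_iff w).2 hw, orderOf_one] at hy
      exact hp.ne_one hy.symm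
  rw [index_eq_card, ← card_top, ← hy, ← Nat.card_zpowers]
  congr 1
  rw [← map_comap_eq_self_of_surjective (QuotientGroup.mk'_surjective M) (zpowers y), htop,
    map_top_of_surjective _ (QuotientGroup.mk'_surjective M)]

theorem hasNormalPComplement_of_hsubgroups (P : Sylow p G)
    (hmin : ∀ q : ℕ, q.Prime → q ∣ Nat.card G → p ≤ q) {k : ℕ} (hk : 1 ≤ k)
    (hkP : p ^ k < Nat.card (P : Subgroup G))
    (hH : ∀ E : Subgroup G, E ≤ (P : Subgroup G) →
      (Nat.card E = p ^ k ∨ (p = 2 ∧ k = 1 ∧ Nat.card E = 4)) →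
      ∀ g : G, E.map (MulAut.conj g).toMonoidHom ⊓ normalizer (E : Set G) ≤ E) :
    Cfsg.HasNormalPComplement p G := by
  have hp : p.Prime := Fact.out
  have hPp : IsPGroup p (P : Subgroup G) := P.isPGroup'
  have hnil : Group.IsNilpotent (P : Subgroup G) := hPp.isNilpotent
  have hcop1 : ∀ g : G, (orderOf g).Coprime (p - 1) := by
    intro g
    by_contra hc
    obtain ⟨q, hq, hq1, hq2⟩ := Nat.Prime.not_coprime_iff_dvd.1 hc
    have h1 := hmin q hq (hq1.trans (orderOf_dvd_natCard g))
    have := hp.two_le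
    have h2 := Nat.le_of_dvd (by omega) hq2
    omega
  have hEn : ∀ E : Subgroup G, E ≤ (P : Subgroup G) →
      (Nat.card E = p ^ k ∨ (p = 2 ∧ k = 1 ∧ Nat.card E = 4)) →
      (P : Subgroup G) ≤ normalizer (E : Set G) := by
    intro E hEP hEc
    by_contra hne
    set X := (P : Subgroup G) ⊓ normalizer (E : Set G) with hX
    have hXlt : X < (P : Subgroup G) := lt_of_le_of_ne inf_le_left fun h => hne (h ▸ inf_le_right)
    obtain ⟨u, ⟨huP, huX⟩, hu⟩ := SetLike.exists_of_lt (Fusion.lt_inf_normalizer hnil hXlt)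
    refine hu ⟨huP, mem_normalizer_iff_map_conj_eq.2 ?_⟩
    have hle : E.map (MulAut.conj u).toMonoidHom ≤ E := by
      refine le_trans (le_inf le_rfl ?_) (hH E hEP hEc u)
      rintro _ ⟨e, he, rfl⟩
      exact (CLarge.conj_mem huX (mem_inf.2 ⟨hEP he, le_normalizer he⟩) : u * e * u⁻¹ ∈ X).2
    exact eq_of_le_of_card_ge hle (Product.card_map_conj E u).ge
  have hclosed : ∀ E : Subgroup G, E ≤ (P : Subgroup G) →
      (Nat.card E = p ^ k ∨ (p = 2 ∧ k = 1 ∧ Nat.card E = 4)) →
      ∀ y ∈ E, ∀ g : G, g * y * g⁻¹ ∈ (P : Subgroup G) → g * y * g⁻¹ ∈ E :=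
    fun E hEP hEc y hy g hg => hH E hEP hEc g ⟨⟨y, hy, rfl⟩, hEn E hEP hEc hg⟩
  set F := (frattini (P : Subgroup G)).map (P : Subgroup G).subtype with hF
  have hFmem : ∀ z, z ∈ (P : Subgroup G) → (∀ M : Subgroup (P : Subgroup G), IsCoatom M →
      z ∈ M.map (P : Subgroup G).subtype) → z ∈ F := by
    intro z hz h
    refine ⟨⟨z, hz⟩, ?_, rfl⟩
    rw [SetLike.mem_coe, frattini, Order.radical]
    simp only [mem_iInf]
    intro M hM
    obtain ⟨w, hw, e⟩ := h M hM
    exact (Subtype.ext e : w = ⟨z, hz⟩) ▸ hw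
  obtain ⟨m, hm⟩ := hPp.exists_card_eq
  have hkm : k + 1 ≤ m := by
    rw [hm] at hkP
    exact (Nat.pow_lt_pow_iff_right hp.one_lt).1 hkP
  -- one step of a chain of conjugations
  have hstep : ∀ (R : Sylow p G) (n : G), Alperin.Tame P R →
      n ∈ normalizer (((P : Subgroup G) ⊓ (R : Subgroup G) : Subgroup G) : Set G) →
      ∀ z ∈ (P : Subgroup G) ⊓ (R : Subgroup G), z⁻¹ * (n * z * n⁻¹) ∈ F := by
    intro R n hT hn z hz
    set Q := (P : Subgroup G) ⊓ (R : Subgroup G) with hQ
    have hQP : Q ≤ (P : Subgroup G) := inf_le_left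
    have hQp : IsPGroup p Q := hPp.to_le hQP
    set N := normalizer (Q : Set G) with hN
    rcases le_or_gt (Nat.card Q) (p ^ k) with hsmall | hbig
    · -- all elements of `Q` lie in members of the family
      refine hFmem _ (mul_mem (inv_mem (hQP hz)) (hQP (CLarge.conj_mem hn hz))) fun M hM => ?_
      obtain ⟨hMn, hMidx⟩ := coatom_facts hPp hM
      set M' := M.map (P : Subgroup G).subtype with hM'
      have hM'P : M' ≤ (P : Subgroup G) := map_subtype_le M
      have hPM : (P : Subgroup G) ≤ normalizer (M' : Set G) :=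
        (normal_subgroupOf_iff_le_normalizer hM'P).1
          (by rwa [hM', subgroupOf, comap_map_eq_self_of_injective (P : Subgroup G).subtype_injective])
      have hMc : Nat.card M = p ^ (m - 1) := by
        have h1 := M.card_mul_index
        rw [hMidx, hm, show m = (m - 1) + 1 by omega, pow_succ] at h1
        exact Nat.eq_of_mul_eq_mul_right hp.pos h1
      have hpres : ∀ g ∈ N, ∀ y ∈ Q ⊓ M', g * y * g⁻¹ ∈ Q ⊓ M' := by
        intro g hg y hy
        refine ⟨CLarge.conj_mem hg hy.1, ?_⟩
        obtain ⟨w, hw, e⟩ := hy.2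
        obtain ⟨j, hj⟩ := ((hPp.to_subgroup M).to_subgroup (zpowers ⟨w, hw⟩)).exists_card_eq
        have hjk : j ≤ k := by
          refine (Nat.pow_le_pow_iff_right hp.one_lt).1 (le_trans ?_ hsmall)
          have hord : orderOf (⟨w, hw⟩ : M) = orderOf y := by rw [orderOf_mk, ← e]; exact (orderOf_coe w).symm
          rw [← hj, Nat.card_zpowers, hord, ← Nat.card_zpowers]
          exact card_le_of_le (zpowers_le.2 hy.1)
        obtain ⟨E0, hE0, hwE0⟩ := Sylow.exists_subgroup_card_pow_prime_le (G := M) p (n := j) (m := k)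
          (hMc ▸ pow_dvd_pow p (by omega)) (zpowers ⟨w, hw⟩) hj hjk
        have hEle : (E0.map M.subtype).map (P : Subgroup G).subtype ≤ M' := map_mono (map_subtype_le E0)
        refine hEle (hclosed _ (hEle.trans hM'P) (Or.inl ?_) y ⟨w, ⟨⟨w, hw⟩, hwE0 (mem_zpowers _), rfl⟩, e⟩ g
          (hQP (CLarge.conj_mem hg hy.1)))
        rw [card_map_of_injective (P : Subgroup G).subtype_injective,
          card_map_of_injective M.subtype_injective, hE0]
      by_cases hQM : Q ≤ M'
      · exact mul_mem (inv_mem (hQM hz)) (hQM (CLarge.conj_mem hn hz))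
      have hidx : (Q ⊓ M').relIndex Q = p := by
        rw [inf_relIndex_left]
        have hsup : Q ⊔ M' = (P : Subgroup G) := by
          refine le_antisymm (sup_le hQP hM'P) ?_
          have htop : (Q ⊔ M').subgroupOf (P : Subgroup G) = ⊤ := by
            refine hM.2 _ (lt_of_le_of_ne (fun a ha => mem_subgroupOf.2 (mem_sup_right ⟨a, ha, rfl⟩)) ?_)
            intro h
            apply hQM
            intro a ha
            exact ⟨⟨a, hQP ha⟩, h ▸ mem_subgroupOf.2 (mem_sup_left ha), rfl⟩
          exact subgroupOf_eq_top.1 htop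
        have h2 := relIndex_sup_right' (hQP.trans hPM)
        rw [hsup] at h2
        rw [← hMidx, ← h2]
        show (M'.subgroupOf (P : Subgroup G)).index = M.index
        rw [hM', subgroupOf, comap_map_eq_self_of_injective (P : Subgroup G).subtype_injective]
      exact (fix_mod (p := p) inf_le_left
        (CLarge.le_normalizer_inf' le_normalizer (hQP.trans hPM))
        hidx hn (CLarge.le_normalizer_of_forall hpres hn) (hcop1 n) z hz).2
    · -- the automizer of `Q` is a `p`-group
      have hv : ∀ v ∈ N, (orderOf v).Coprime p → v ∈ centralizer (Q : Set G) := by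
        intro v hv hvo
        refine centralizes_of_fix hQp hv hvo (hcop1 v) hk hbig fun E hEQ hEc => ?_
        have hle : E.map (MulAut.conj v).toMonoidHom ≤ E := by
          rintro _ ⟨e, he, rfl⟩
          exact hclosed E (hEQ.trans hQP) hEc e he v (hQP (CLarge.conj_mem hv (hEQ he)))
        exact mem_normalizer_iff_map_conj_eq.2 (eq_of_le_of_card_ge hle (Product.card_map_conj E v).ge)
      have hCn : ((centralizer (Q : Set G)).subgroupOf N).Normal := by
        rw [← normalizerMonoidHom_ker]; exact MonoidHom.normal_ker _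
      have hq : IsPGroup p (N ⧸ (centralizer (Q : Set G)).subgroupOf N) := by
        refine PBasic.quotient_isPGroup_of_pResidual_le ?_
        exact (closure_le _).2 fun y hy => mem_subgroupOf.2 (hv y y.2 (by rwa [orderOf_coe]))
      let S0 : Sylow p N := (hPp.comap_subtype (K := N)).toSylow (by
        show ¬ p ∣ (P : Subgroup G).relIndex N
        rw [← inf_relIndex_right]
        exact hT.1)
      have htop := PBasic.sylow_sup_eq_top S0 hq
      have hmem : (⟨n, hn⟩ : N) ∈ ((S0 : Subgroup N) : Set N) *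
          (((centralizer (Q : Set G)).subgroupOf N : Subgroup N) : Set N) := by
        rw [← mul_normal, htop]; trivial
      obtain ⟨u, hu, c, hc, e⟩ := hmem
      have e' : (u : G) * (c : G) = n := congrArg Subtype.val e
      have hcz : (c : G) * z * (c : G)⁻¹ = z := by
        rw [← mem_centralizer_iff.1 (mem_subgroupOf.1 hc) z hz]; group
      have huP : (u : G) ∈ (P : Subgroup G) := hu
      have h : n * z * n⁻¹ = (u : G) * z * (u : G)⁻¹ := by
        rw [← e', show (u : G) * c * z * ((u : G) * c)⁻¹ = (u : G) * ((c : G) * z * (c : G)⁻¹) * (u : G)⁻¹ by group, hcz]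
      rw [h]
      refine ⟨(⟨z, hQP hz⟩ : (P : Subgroup G))⁻¹ * (⟨u, huP⟩ * ⟨z, hQP hz⟩ * ⟨u, huP⟩⁻¹), ?_, rfl⟩
      have := commutator_le_frattini' hPp (commutator_mem_commutator
        (mem_top ((⟨z, hQP hz⟩ : (P : Subgroup G))⁻¹)) (mem_top (⟨u, huP⟩ : (P : Subgroup G))))
      simpa [commutatorElement_def, mul_assoc] using this
  -- conjugation inside `P` is trivial modulo `F`
  have hchain : ∀ {A : Set G} {g : G}, Alperin.Chain P A g → ∀ z ∈ A, z⁻¹ * (g⁻¹ * z * g) ∈ F := by
    intro A g h
    induction h with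
    | nil => intro z _; simp
    | @cons A x g Q hQ hx hA _ ih =>
      intro z hz
      have h1 := hstep Q x⁻¹ hQ (inv_mem hx) z (hA hz)
      rw [inv_inv] at h1
      have h2 := ih (x⁻¹ * z * x) ⟨z, hz, rfl⟩
      have := mul_mem h1 h2
      simpa [mul_assoc] using this
  have hfus : ∀ z ∈ (P : Subgroup G), ∀ g : G, g⁻¹ * z * g ∈ (P : Subgroup G) →
      z⁻¹ * (g⁻¹ * z * g) ∈ F := fun z hz g hg =>
    hchain (Alperin.chain_of_conj P {z} g (Set.singleton_subset_iff.2 hz)
      (by rintro _ ⟨_, rfl, rfl⟩; exact hg)) z rfl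
  -- transfer to `P / Φ(P)`
  have hcomm : ∀ a b : (P : Subgroup G) ⧸ frattini (P : Subgroup G), a * b = b * a := by
    intro a b
    obtain ⟨a, rfl⟩ := QuotientGroup.mk_surjective a
    obtain ⟨b, rfl⟩ := QuotientGroup.mk_surjective b
    rw [← QuotientGroup.mk_mul, ← QuotientGroup.mk_mul, QuotientGroup.eq]
    have := commutator_le_frattini' hPp (commutator_mem_commutator (mem_top b⁻¹) (mem_top a⁻¹))
    simpa [commutatorElement_def, mul_assoc] using this
  let : CommGroup ((P : Subgroup G) ⧸ frattini (P : Subgroup G)) :=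
    { (inferInstance : Group ((P : Subgroup G) ⧸ frattini (P : Subgroup G))) with mul_comm := hcomm }
  let φ : (P : Subgroup G) →* (P : Subgroup G) ⧸ frattini (P : Subgroup G) := QuotientGroup.mk' _
  set τ := MonoidHom.transfer φ with hτ
  have hker : τ.ker ⊓ (P : Subgroup G) ≤ F := by
    rintro z ⟨hzk, hzP⟩
    have h1 : τ z = 1 := hzk
    have := Fintype.ofFinite (Quotient (MulAction.orbitRel (zpowers z) (G ⧸ (P : Subgroup G))))
    rw [hτ, MonoidHom.transfer_eq_prod_quotient_orbitRel_zpowers_quot] at h1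
    have heq : ∀ q : Quotient (MulAction.orbitRel (zpowers z) (G ⧸ (P : Subgroup G))),
        φ ⟨q.out.out⁻¹ * z ^ Function.minimalPeriod (z • ·) q.out * q.out.out,
          QuotientGroup.out_conj_pow_minimalPeriod_mem _ z q.out⟩ =
        φ ⟨z, hzP⟩ ^ Function.minimalPeriod (z • ·) q.out := by
      intro q
      rw [← map_pow]
      refine (QuotientGroup.eq.2 ?_).symm
      obtain ⟨w, hw, e⟩ := hfus _ (pow_mem hzP (Function.minimalPeriod (z • ·) q.out)) q.out.out
        (QuotientGroup.out_conj_pow_minimalPeriod_mem _ z q.out)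
      refine Set.mem_of_eq_of_mem (Subtype.ext ?_) hw
      simpa using e.symm
    rw [Finset.prod_congr rfl fun q _ => heq q, Finset.prod_pow_eq_pow_sum,
      ← index_eq_sum_minimalPeriod] at h1
    obtain ⟨j, hj⟩ := (hPp.to_quotient (frattini (P : Subgroup G))).exists_card_eq
    have hd : orderOf (φ ⟨z, hzP⟩) ∣ Nat.card ((P : Subgroup G) ⧸ frattini (P : Subgroup G)) :=
      orderOf_dvd_natCard _
    rw [hj] at hd
    have h2 := Nat.eq_one_of_dvd_coprimes
      (Nat.Coprime.pow_left j (hp.coprime_iff_not_dvd.2 P.not_dvd_index)) hd (orderOf_dvd_of_pow_eq_one h1)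
    exact ⟨⟨z, hzP⟩, (QuotientGroup.eq_one_iff _).1 (orderOf_eq_one_iff.1 h2), rfl⟩
  have hK := Tate.hasNormalPComplement_of_inf_le P τ.ker hker
  refine PBasic.hasNormalPComplement_of_pPrimeCore ?_
  have hLchar := PBasic.pPrimeCore_characteristic p τ.ker
  have hLle : (Cfsg.pPrimeCore p τ.ker).map τ.ker.subtype ≤ Cfsg.pPrimeCore p G :=
    PBasic.le_pPrimeCore inferInstance
      (by rw [card_map_of_injective τ.ker.subtype_injective]; exact PBasic.pPrimeCore_coprime p τ.ker)
  obtain ⟨a, ha⟩ := PBasic.exists_index_pow_of_isPGroup_quotient (PBasic.quotient_pPrimeCore_isPGroup hK)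
  obtain ⟨b, hb⟩ := (hPp.to_quotient (frattini (P : Subgroup G))).exists_card_eq
  have hd : (Cfsg.pPrimeCore p G).index ∣ p ^ (a + b) := by
    refine (index_dvd_of_le hLle).trans ?_
    rw [index_map_subtype, ha, pow_add]
    refine mul_dvd_mul_left _ ?_
    rw [index_ker, ← hb]
    exact card_subgroup_dvd_card _
  obtain ⟨c, -, hc⟩ := (Nat.dvd_prime_pow hp).1 hd
  exact ⟨c, hc⟩

theorem hasNormalPComplement_of_cyclic (P : Sylow p G) [hcy : IsCyclic (P : Subgroup G)]
    (hmin : ∀ q : ℕ, q.Prime → q ∣ Nat.card G → p ≤ q) : Cfsg.HasNormalPComplement p G := by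
  have hp : p.Prime := Fact.out
  refine Fusion.hasNormalPComplement_of_normalizer_le_centralizer P fun g hg => ?_
  obtain ⟨u, v, huv, hu, hv, ⟨a, hua⟩, hvp⟩ := PBasic.exists_pPart_mul (p := p) g
  have huN := zpowers_le.2 hg hu
  have hvN := zpowers_le.2 hg hv
  have huP : u ∈ (P : Subgroup G) := by
    have hp' : IsPGroup p (zpowers u) := IsPGroup.of_card (n := a) (by rw [Nat.card_zpowers, hua])
    have h := P.is_maximal' (IsPGroup.to_sup_of_normal_right' hp' P.isPGroup' (zpowers_le.2 huN)) le_sup_right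
    exact h.le (mem_sup_left (mem_zpowers u))
  obtain ⟨j, hj⟩ := P.isPGroup'.exists_card_eq
  have hvC : v ∈ centralizer ((P : Subgroup G) : Set G) := by
    refine centralizes_cyclic hvN ?_
    rw [hj]
    rcases Nat.eq_zero_or_pos j with rfl | hj0
    · simp
    · rw [Nat.totient_prime_pow hp hj0]
      refine Nat.Coprime.mul_right (Nat.Coprime.pow_right _ hvp) ?_
      by_contra hc
      obtain ⟨q, hq, hq1, hq2⟩ := Nat.Prime.not_coprime_iff_dvd.1 hc
      have h1 := hmin q hq (hq1.trans (orderOf_dvd_natCard v))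
      have := hp.two_le
      have h2 := Nat.le_of_dvd (by omega) hq2
      omega
  have := hcy.isMulCommutative
  exact huv ▸ mul_mem (le_centralizer (P : Subgroup G) huP) hvC

end Cfsg.Agent.HSub
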