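/-
For odd `p`, a `p`-group with a single subgroup of order `p` is cyclic.
-/
import Mathlib.GroupTheory.Sylow
import Mathlib.GroupTheory.Nilpotent
import Mathlib.NumberTheory.Multiplicity
import Mathlib.FieldTheory.Finite.Basic

set_option autoImplicit false

namespace Cfsg.Agent.IsolatedP

theorem isCyclic_of_odd_unique {P : Type*} [Group P] [Finite P] {p : ℕ} [Fact p.Prime] (hP : IsPGroup p P)
    (hp : p ≠ 2) (z : P) (hz : z ^ p = 1) (huniq : ∀ y : P, y ^ p = 1 → y ∈ Subgroup.zpowers z) :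
    IsCyclic P := by
  have hpp : p.Prime := Fact.out
  obtain ⟨m, hm⟩ := Finite.exists_max (fun m : P => orderOf m)
  set M := Subgroup.zpowers m with hMdef
  by_contra hncyc
  have hMtop : M ≠ ⊤ := fun h => hncyc ⟨m, fun x => show x ∈ M from h ▸ Subgroup.mem_top x⟩
  -- m is nontrivial
  have hm1 : m ≠ 1 := by
    rintro rfl
    refine hncyc ⟨1, fun x => ?_⟩
    have h := hm x
    simp only [orderOf_one] at h
    have : x = 1 := orderOf_eq_one_iff.1 (le_antisymm h (orderOf_pos x))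
    simp [this]
  haveI := hP.isNilpotent
  obtain ⟨g0, hg0N, hg0M⟩ :=
    SetLike.exists_of_lt (Group.normalizerCondition_of_isNilpotent M (lt_top_iff_ne_top.2 hMtop))
  obtain ⟨k0, hk0⟩ := hP g0
  -- an element outside `M` with `p`-th power inside
  obtain ⟨g, hgN, hgM, hgp⟩ : ∃ g, g ∈ Subgroup.normalizer (M : Set P) ∧ g ∉ M ∧ g ^ p ∈ M := by
    classical
    have hex : ∃ j, g0 ^ p ^ j ∈ M := ⟨k0, by rw [hk0]; exact one_mem M⟩
    have hj0 : Nat.find hex ≠ 0 := by
      intro h; have := Nat.find_spec hex; rw [h] at this; simp at this; exact hg0M this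
    refine ⟨g0 ^ p ^ (Nat.find hex - 1), pow_mem hg0N _, Nat.find_min hex (by omega), ?_⟩
    rw [← pow_mul, ← pow_succ, show Nat.find hex - 1 + 1 = Nat.find hex by omega]
    exact Nat.find_spec hex
  obtain ⟨n, hn⟩ : ∃ n, orderOf m = p ^ n := IsPGroup.iff_orderOf.1 hP m
  obtain ⟨e, he⟩ := hgp
  simp only at he
  -- `g ^ p` does not generate `M`
  obtain ⟨k, rfl⟩ : (p : ℤ) ∣ e := by
    by_contra hne
    have hle : M ≤ Subgroup.zpowers g := by
      have hco : Int.gcd e (orderOf m : ℤ) = 1 := by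
        rw [← Int.isCoprime_iff_gcd_eq_one, hn, Nat.cast_pow]
        exact IsCoprime.pow_right
          (((Nat.prime_iff_prime_int.1 hpp).coprime_iff_not_dvd.2 hne).symm)
      obtain ⟨u, v, huv⟩ : IsCoprime e (orderOf m : ℤ) := Int.isCoprime_iff_gcd_eq_one.2 hco
      have : m = (g ^ p) ^ u := by
        rw [← he, ← zpow_mul]
        conv_lhs => rw [← zpow_one m, ← huv, zpow_add, zpow_mul' m v, zpow_natCast, pow_orderOf_eq_one,
          one_zpow, mul_one, mul_comm]
      rw [hMdef, Subgroup.zpowers_le, this]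
      exact zpow_mem (pow_mem (Subgroup.mem_zpowers g) p) u
    have hlt : M < Subgroup.zpowers g :=
      lt_of_le_of_ne hle fun h => hgM (h ▸ Subgroup.mem_zpowers g)
    refine absurd (hm g) (not_le.2 ?_)
    rw [← Nat.card_zpowers, ← Nat.card_zpowers]
    refine lt_of_le_of_ne (Nat.le_of_dvd Nat.card_pos (Subgroup.card_dvd_of_le hle)) fun h =>
      hlt.ne (Subgroup.eq_of_le_of_card_ge hle h.ge)
  obtain ⟨r, hr⟩ := (Subgroup.mem_normalizer_iff.1 hgN m).1 (Subgroup.mem_zpowers m)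
  simp only at hr
  have hconj : ∀ i : ℕ, g ^ i * m * (g ^ i)⁻¹ = m ^ (r ^ i) := by
    intro i
    induction i with
    | zero => simp
    | succ i ih =>
      calc g ^ (i + 1) * m * (g ^ (i + 1))⁻¹ = g * (g ^ i * m * (g ^ i)⁻¹) * g⁻¹ := by
            rw [pow_succ']; group
        _ = (g * m * g⁻¹) ^ (r ^ i) := by rw [ih, conj_zpow]
        _ = m ^ (r ^ (i + 1)) := by rw [← hr, ← zpow_mul, ← pow_succ']
  -- `r ≡ 1 mod p`
  have hr1 : (p : ℤ) ∣ r - 1 := by
    have hc : Commute (g ^ p) m := he ▸ (Commute.refl m).zpow_left _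
    have h1 : m ^ (r ^ p) = m := by rw [← hconj p, hc.eq, mul_inv_cancel_right]
    have h2 : (orderOf m : ℤ) ∣ r ^ p - 1 := by
      rw [orderOf_dvd_iff_zpow_eq_one, zpow_sub, zpow_one, h1, mul_inv_cancel]
    have h3 : (p : ℤ) ∣ r ^ p - 1 := dvd_trans (by
      rw [hn]; push_cast
      refine dvd_pow_self _ ?_
      rintro rfl
      exact hm1 (orderOf_eq_one_iff.1 (by simpa using hn))) h2
    have h4 : ((r ^ p - 1 : ℤ) : ZMod p) = 0 := (ZMod.intCast_zmod_eq_zero_iff_dvd _ _).2 h3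
    push_cast at h4
    rw [ZMod.pow_card] at h4
    exact (ZMod.intCast_zmod_eq_zero_iff_dvd _ _).1 (by push_cast; exact h4)
  obtain ⟨b, hb⟩ := hr1
  -- the geometric sum
  set S : ℤ := ∑ i ∈ Finset.range p, r ^ i with hS
  obtain ⟨u, hu, huc⟩ : ∃ u : ℤ, S = p * u ∧ IsCoprime u (p : ℤ) := by
    obtain ⟨c, hc⟩ := odd_sq_dvd_geom_sum₂_sub (1 : ℤ) b (hpp.odd_of_ne_two hp)
    refine ⟨1 + p * c, ?_, ⟨1, -c, by ring⟩⟩
    have e1 : S = ∑ i ∈ Finset.range p, (1 + (p : ℤ) * b) ^ i * (1 : ℤ) ^ (p - 1 - i) := by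
      rw [hS]; refine Finset.sum_congr rfl fun i _ => ?_
      rw [one_pow, mul_one, show r = 1 + (p : ℤ) * b by linear_combination hb]
    rw [one_pow, mul_one] at hc
    rw [e1]; linear_combination hc
  have hrc : IsCoprime r (p : ℤ) := ⟨1, -b, by linear_combination hb⟩
  have hco : IsCoprime (r * u) ((p : ℤ) ^ n) := (hrc.mul_left huc).pow_right
  obtain ⟨a, c, hac⟩ := hco
  -- choose the exponent killing the `p`-th power
  set j' : ℤ := -(k * a * r) with hj'
  have hfin : (m ^ j' * g) ^ p = 1 := by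
    have hpow' : ∀ i : ℕ, (m ^ j' * g) ^ i = m ^ (j' * ∑ l ∈ Finset.range i, r ^ l) * g ^ i := by
      intro i
      induction i with
      | zero => simp
      | succ i ih =>
        have h := hconj i
        calc (m ^ j' * g) ^ (i + 1) = m ^ (j' * ∑ l ∈ Finset.range i, r ^ l) * g ^ i * (m ^ j' * g) := by
              rw [pow_succ, ih]
          _ = m ^ (j' * ∑ l ∈ Finset.range i, r ^ l) * (g ^ i * m * (g ^ i)⁻¹) ^ j' * g ^ (i + 1) := by
              rw [conj_zpow, pow_succ]; group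
          _ = _ := by
              rw [h, ← zpow_mul, ← zpow_add, Finset.sum_range_succ]
              ring_nf
    rw [hpow', ← he, ← zpow_add, ← hS, hu, ← orderOf_dvd_iff_zpow_eq_one, hn, Nat.cast_pow]
    exact ⟨(p : ℤ) * k * c, by rw [hj']; linear_combination (-((p : ℤ) * k)) * hac⟩
  have hy : m ^ j' * g ∈ M := by
    have hzM : z ∈ M := by
      obtain ⟨w, hw⟩ : ∃ w ∈ M, orderOf w = p := by
        have hd : p ∣ Nat.card M := by
          rw [hMdef, Nat.card_zpowers, hn]
          refine dvd_pow_self p ?_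
          rintro rfl
          exact hm1 (orderOf_eq_one_iff.1 (by simpa using hn))
        obtain ⟨w, hw⟩ := exists_prime_orderOf_dvd_card' p hd
        exact ⟨w, w.2, by rwa [Subgroup.orderOf_coe]⟩
      have hle : Subgroup.zpowers w ≤ Subgroup.zpowers z :=
        Subgroup.zpowers_le.2 (huniq w (hw.2 ▸ pow_orderOf_eq_one w))
      have heq : Subgroup.zpowers w = Subgroup.zpowers z := Subgroup.eq_of_le_of_card_ge hle (by
        rw [Nat.card_zpowers, Nat.card_zpowers, hw.2]
        exact Nat.le_of_dvd hpp.pos (orderOf_dvd_of_pow_eq_one hz))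
      exact (heq ▸ Subgroup.zpowers_le.2 hw.1 : Subgroup.zpowers z ≤ M) (Subgroup.mem_zpowers z)
    exact Subgroup.zpowers_le.2 hzM (huniq _ hfin)
  exact hgM ((Subgroup.mul_mem_cancel_left M (zpow_mem (Subgroup.mem_zpowers m) _)).1 hy)

end Cfsg.Agent.IsolatedP
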