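import Cfsg.Agent.Lib.Isolated.Basic
import Cfsg.Agent.S2971
import Cfsg.Agent.S2910
import Cfsg.Agent.Lib.Transfer.Fusion
import Cfsg.Agent.Lib.Transfer.Basic
import Cfsg.Agent.Lib.Components.FStar
import Cfsg.Agent.Lib.Components.PComponent
import Cfsg.Agent.Lib.Components.Fitting
import Cfsg.Agent.Lib.Solvable.Structure

/-!
Isolated elements of order `p` (odd) in groups of `p`-rank at most two: the centralizer controls fusion,
and the generalized Fitting subgroup is simple.
-/

set_option autoImplicit false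
set_option linter.unusedSectionVars false
set_option linter.style.haveILetI false

namespace Cfsg.Agent.IsoRankTwo

open Cfsg

variable {G : Type*} [Group G] [Finite G] {p : ℕ} [hp : Fact p.Prime]

theorem commute_sylow {x : G} (hiso : Cfsg.IsIsolated x) (P : Sylow p G) (hxP : x ∈ (P : Subgroup G))
    {y : G} (hy : y ∈ (P : Subgroup G)) : y * x = x * y :=
  IsolatedP.commute_of_mem hiso P.isPGroup' hxP hy

/-- Fusion in a Sylow subgroup containing an isolated element is controlled by its centralizer. -/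
theorem control {x : G} (hx : orderOf x = p) (hiso : Cfsg.IsIsolated x) (P : Sylow p G)
    (hxP : x ∈ (P : Subgroup G)) : ∀ u ∈ (P : Subgroup G), ∀ g : G, g * u * g⁻¹ ∈ (P : Subgroup G) →
      ∃ c ∈ Subgroup.centralizer ({x} : Set G), c * u * c⁻¹ = g * u * g⁻¹ := by
  intro u hu g hgu
  have hxe : ∃ k : ℕ, orderOf x = p ^ k := ⟨1, by rw [hx, pow_one]⟩
  have hye : ∃ k : ℕ, orderOf (g * x * g⁻¹) = p ^ k := ⟨1, by rw [IsolatedP.orderOf_conj', hx, pow_one]⟩
  set H := Subgroup.centralizer ({g * u * g⁻¹} : Set G) with hH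
  have hxH : x ∈ H := Subgroup.mem_centralizer_singleton_iff.2 (commute_sylow hiso P hxP hgu).symm
  have hyH : g * x * g⁻¹ ∈ H := by
    refine Subgroup.mem_centralizer_singleton_iff.2 ?_
    calc g * x * g⁻¹ * (g * u * g⁻¹) = g * (x * u) * g⁻¹ := by group
      _ = g * (u * x) * g⁻¹ := by rw [commute_sylow hiso P hxP hu]
      _ = g * u * g⁻¹ * (g * x * g⁻¹) := by group
  obtain ⟨h, hh, R, hR, hxR, hyR⟩ := IsolatedP.exists_conj_common hxe hye hxH hyH
  have e : h * g * x * (h * g)⁻¹ = x :=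
    IsolatedP.eq_of_conj_mem hiso hR hxR (by
      rw [show h * g * x * (h * g)⁻¹ = h * (g * x * g⁻¹) * h⁻¹ by group]; exact hyR)
  refine ⟨h * g, Subgroup.mem_centralizer_singleton_iff.2 (mul_inv_eq_iff_eq_mul.1 e), ?_⟩
  rw [show h * g * u * (h * g)⁻¹ = h * (g * u * g⁻¹) * h⁻¹ by group,
    Subgroup.mem_centralizer_singleton_iff.1 hh, mul_inv_cancel_right]

theorem npc_of_centralizer {x : G} (hx : orderOf x = p) (hiso : Cfsg.IsIsolated x) (P : Sylow p G)
    (hxP : x ∈ (P : Subgroup G))
    (hC : Cfsg.HasNormalPComplement p ↥(Subgroup.centralizer ({x} : Set G))) :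
    Cfsg.HasNormalPComplement p G := by
  set C := Subgroup.centralizer ({x} : Set G) with hCdef
  have hPC : (P : Subgroup G) ≤ C := fun y hy =>
    Subgroup.mem_centralizer_singleton_iff.2 (commute_sylow hiso P hxP hy)
  rw [PBasic.hasNormalPComplement_iff_inf P, inf_comm,
    Fusion.inf_pResidual_eq_of_controlsFusion P C hPC (control hx hiso P hxP), eq_bot_iff]
  rintro _ ⟨hP, a, ha, rfl⟩
  have h := (PBasic.hasNormalPComplement_iff_inf (P.subtype hPC)).1 hC
  have : a ∈ Cfsg.pResidual p ↥C ⊓ ((P.subtype hPC : Sylow p ↥C) : Subgroup ↥C) := ⟨ha, hP⟩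
  rw [h, Subgroup.mem_bot] at this
  rw [this]; exact one_mem _

/-- Without a `p'`-core, a group with a normal `p`-complement is a `p`-group. -/
theorem isPGroup_of_npc (hcore : Cfsg.pPrimeCore p G = ⊥) (h : Cfsg.HasNormalPComplement p G) :
    IsPGroup p G := by
  haveI := PBasic.pResidual_characteristic p G
  have h1 := PBasic.le_pPrimeCore (N := Cfsg.pResidual p G) inferInstance
    (PBasic.hasNormalPComplement_iff_pResidual.1 h)
  rw [hcore, le_bot_iff] at h1
  obtain ⟨P⟩ : Nonempty (Sylow p G) := inferInstance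
  have h2 := PBasic.sylow_sup_pResidual P
  rw [h1, sup_bot_eq] at h2
  exact IsPGroup.of_equiv (h2 ▸ P.isPGroup' : IsPGroup p ↥(⊤ : Subgroup G)) Subgroup.topEquiv

theorem pow_eq_one_of_mem_closure {a b y : G} (hab : a * b = b * a) (ha : a ^ p = 1) (hb : b ^ p = 1)
    (hy : y ∈ Subgroup.closure ({a, b} : Set G)) : y ^ p = 1 := by
  haveI hc : IsMulCommutative (Subgroup.closure ({a, b} : Set G)) := Subgroup.isMulCommutative_closure (by
    rintro u (rfl | rfl) v (rfl | rfl) <;> first | rfl | exact hab | exact hab.symm)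
  induction hy using Subgroup.closure_induction with
  | mem c hc' =>
    rcases hc' with rfl | rfl
    · exact ha
    · exact hb
  | one => exact one_pow p
  | mul c d hc' hd ihc ihd =>
    have hcd : Commute c d := congrArg Subtype.val
      (hc.is_comm.comm (⟨c, hc'⟩ : Subgroup.closure ({a, b} : Set G)) ⟨d, hd⟩)
    rw [hcd.mul_pow, ihc, ihd, one_mul]
  | inv c _ ihc => rw [inv_pow, ihc, inv_one]

/-- In rank two, an element of order `p` commuting with two independent ones lies in their span. -/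
theorem mem_pair (hrank : Cfsg.PRankLE p 2 G) {a b y : G} (ha : a ^ p = 1) (hb : b ^ p = 1)
    (hy : y ^ p = 1) (ha1 : a ≠ 1) (hba : b ∉ Subgroup.zpowers a) (hab : a * b = b * a)
    (hya : y * a = a * y) (hyb : y * b = b * y) : y ∈ Subgroup.closure ({a, b} : Set G) := by
  set E := Subgroup.closure ({a, b} : Set G) with hE
  by_contra hyE
  set A := Subgroup.closure ({a, b, y} : Set G) with hA
  haveI hAc : IsMulCommutative A := Subgroup.isMulCommutative_closure (by
    rintro u (rfl | rfl | rfl) v (rfl | rfl | rfl) <;>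
      first | rfl | exact hab | exact hab.symm | exact hya | exact hya.symm | exact hyb | exact hyb.symm)
  have hAp : ∀ c ∈ A, c ^ p = 1 := by
    intro c hc
    induction hc using Subgroup.closure_induction with
    | mem d hd =>
      rcases hd with rfl | rfl | rfl
      exacts [ha, hb, hy]
    | one => exact one_pow p
    | mul c d hc' hd ihc ihd =>
      have hcd : Commute c d := congrArg Subtype.val (hAc.is_comm.comm (⟨c, hc'⟩ : A) ⟨d, hd⟩)
      rw [hcd.mul_pow, ihc, ihd, one_mul]
    | inv c _ ihc => rw [inv_pow, ihc, inv_one]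
  have hcard := hrank A hAc hAp
  have hEA : E ≤ A := Subgroup.closure_mono (by
    intro c hc
    rcases hc with rfl | rfl
    · exact Or.inl rfl
    · exact Or.inr (Or.inl rfl))
  have hZE : Subgroup.zpowers a ≤ E := Subgroup.zpowers_le.2 (Subgroup.subset_closure (Or.inl rfl))
  have hoa : orderOf a = p := orderOf_eq_prime ha ha1
  have step : ∀ {U V : Subgroup G}, U ≤ V → U ≠ V → (∀ c ∈ V, c ^ p = 1) →
      Nat.card U * p ≤ Nat.card V := by
    intro U V hle hne hV
    have hVp : IsPGroup p V := fun c => ⟨1, Subtype.ext (by rw [pow_one, Subgroup.coe_pow]; exact hV c c.2)⟩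
    obtain ⟨i, hi⟩ := IsPGroup.iff_card.1 (hVp.to_le hle)
    obtain ⟨j, hj⟩ := IsPGroup.iff_card.1 hVp
    have hlt : Nat.card U < Nat.card V :=
      lt_of_le_of_ne (Subgroup.card_le_of_le hle) fun e => hne (Subgroup.eq_of_le_of_card_ge hle e.ge)
    rw [hi, hj] at hlt ⊢
    rw [← pow_succ]
    exact Nat.pow_le_pow_right hp.out.pos ((Nat.pow_lt_pow_iff_right hp.out.one_lt).1 hlt)
  have h1 := step hZE (fun e => hba (e.ge (Subgroup.subset_closure (Or.inr rfl))))
    (fun c hc => hAp c (hEA hc))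
  have h2 := step hEA (fun e => hyE (e.ge (Subgroup.subset_closure (Or.inr (Or.inr rfl))))) hAp
  rw [Nat.card_zpowers, hoa] at h1
  have h3 : p * p * p ≤ p ^ 2 := (Nat.mul_le_mul_right p h1).trans (h2.trans hcard)
  have := hp.out.one_lt
  nlinarith [pow_two p, Nat.mul_le_mul_left p this]

/-- An isolated element and an independent central element of order `p`: a normal `p`-complement. -/
theorem npc_of_central (hp2 : p ≠ 2) (hrank : Cfsg.PRankLE p 2 G) {x z : G} (hx : orderOf x = p)
    (hiso : Cfsg.IsIsolated x) (hz : z ^ p = 1) (hzx : z ∉ Subgroup.zpowers x)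
    (hzc : z ∈ Subgroup.center G) : Cfsg.HasNormalPComplement p G := by
  obtain ⟨P, hP⟩ := (IsolatedP.isPGroup_zpowers (p := p) (x := x) ⟨1, by rw [hx, pow_one]⟩).exists_le_sylow
  have hxP : x ∈ (P : Subgroup G) := hP (Subgroup.mem_zpowers x)
  refine npc_of_centralizer hx hiso P hxP ?_
  set C := Subgroup.centralizer ({x} : Set G) with hC
  have hPC : (P : Subgroup G) ≤ C := fun y hy =>
    Subgroup.mem_centralizer_singleton_iff.2 (commute_sylow hiso P hxP hy)
  have hx1 : x ≠ 1 := by rintro rfl; rw [orderOf_one] at hx; exact hp.out.ne_one hx.symm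
  have hxC : x ∈ C := hPC hxP
  refine (S2910.result hp2 ?_ (P.subtype hPC) ((Subgroup.closure_le _).2 ?_)).1
  · rw [← hx, ← Subgroup.orderOf_mk x hxC]; exact orderOf_dvd_natCard _
  rintro ⟨y, hyC⟩ ⟨hy, hyp⟩
  have hyp' : y ^ p = 1 := congrArg Subtype.val hyp
  have hyE := mem_pair hrank (hx ▸ pow_orderOf_eq_one x) hz hyp' hx1 hzx
    (Subgroup.mem_center_iff.1 hzc x)
    (commute_sylow hiso P hxP (show y ∈ (P : Subgroup G) from hy)) (Subgroup.mem_center_iff.1 hzc y)
  refine Subgroup.mem_center_iff.2 fun c => Subtype.ext ?_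
  have hle : Subgroup.closure ({x, z} : Set G) ≤ Subgroup.centralizer ({(c : G)} : Set G) := by
    rw [Subgroup.closure_le]
    rintro u (rfl | rfl)
    · exact Subgroup.mem_centralizer_singleton_iff.2 (Subgroup.mem_centralizer_singleton_iff.1 c.2).symm
    · exact Subgroup.mem_centralizer_singleton_iff.2 (Subgroup.mem_center_iff.1 hzc c).symm
  exact (Subgroup.mem_centralizer_singleton_iff.1 (hle hyE)).symm

theorem isolated_sub {x : G} (hiso : Cfsg.IsIsolated x) {H : Subgroup G} (hxH : x ∈ H) :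
    Cfsg.IsIsolated (⟨x, hxH⟩ : ↥H) :=
  fun g hg => Subtype.ext (hiso g (congrArg Subtype.val hg :))

theorem isolated_conj {x : G} (hiso : Cfsg.IsIsolated x) (k : G) : Cfsg.IsIsolated (k * x * k⁻¹) := by
  intro g hg
  have h := hiso (k⁻¹ * g * k) (by
    show x * (k⁻¹ * g * k * x * (k⁻¹ * g * k)⁻¹) = k⁻¹ * g * k * x * (k⁻¹ * g * k)⁻¹ * x
    have e : k * x * k⁻¹ * (g * (k * x * k⁻¹) * g⁻¹) = g * (k * x * k⁻¹) * g⁻¹ * (k * x * k⁻¹) := hg
    calc x * (k⁻¹ * g * k * x * (k⁻¹ * g * k)⁻¹)
        = k⁻¹ * (k * x * k⁻¹ * (g * (k * x * k⁻¹) * g⁻¹)) * k := by group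
      _ = k⁻¹ * (g * (k * x * k⁻¹) * g⁻¹ * (k * x * k⁻¹)) * k := by rw [e]
      _ = _ := by group)
  calc g * (k * x * k⁻¹) * g⁻¹ = k * (k⁻¹ * g * k * x * (k⁻¹ * g * k)⁻¹) * k⁻¹ := by group
    _ = k * x * k⁻¹ := by rw [h]

theorem rank_sub (hrank : Cfsg.PRankLE p 2 G) (H : Subgroup G) : Cfsg.PRankLE p 2 ↥H := fun A hA hAp => by
  rw [← Subgroup.card_map_of_injective (K := A) H.subtype_injective]
  refine hrank _ ⟨⟨?_⟩⟩ ?_
  · rintro ⟨_, a, ha, rfl⟩ ⟨_, b, hb, rfl⟩
    exact Subtype.ext (congrArg (fun c : A => ((c : ↥H) : G)) (hA.is_comm.comm ⟨a, ha⟩ ⟨b, hb⟩))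
  · rintro _ ⟨a, ha, rfl⟩
    rw [← map_pow, hAp a ha, map_one]

variable {x : G}

theorem pCore_eq_bot (hp2 : p ≠ 2) (hcore : Cfsg.pPrimeCore p G = ⊥) (hrank : Cfsg.PRankLE p 2 G)
    (hx : orderOf x = p) (hiso : Cfsg.IsIsolated x) (hnc : x ∉ Subgroup.center G) :
    Cfsg.pCore p G = ⊥ := by
  classical
  obtain ⟨P, hP⟩ := (IsolatedP.isPGroup_zpowers (p := p) (x := x) ⟨1, by rw [hx, pow_one]⟩).exists_le_sylow
  have hxP : x ∈ (P : Subgroup G) := hP (Subgroup.mem_zpowers x)
  by_contra hne
  set R := Cfsg.pCore p G with hR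
  haveI hRn : R.Normal := Cfsg.pCore_normal p G
  have hRP : R ≤ (P : Subgroup G) := PBasic.pCore_le_sylow P
  have hxR : x ∉ R := fun h => hnc (Subgroup.mem_center_iff.2 fun g => mul_inv_eq_iff_eq_mul.1
    (IsolatedP.eq_of_conj_mem hiso P.isPGroup' hxP (hRP (hRn.conj_mem x h g))))
  -- a central element of `P` of order `p` in `R`
  obtain ⟨z, hzR, hzc, hzo⟩ : ∃ z ∈ R, (∀ y ∈ (P : Subgroup G), y * z = z * y) ∧ orderOf z = p := by
    haveI := P.isPGroup'.isNilpotent
    set R' := R.subgroupOf (P : Subgroup G) with hR'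
    have hR'1 : R' ≠ ⊥ := fun h => hne (by
      rw [← Subgroup.map_subgroupOf_eq_of_le hRP, ← hR', h, Subgroup.map_bot])
    haveI := (Subgroup.nontrivial_iff_ne_bot _).2 (SolvStruct.inf_center_ne_bot hR'1)
    obtain ⟨m, hm0, hm⟩ := (IsPGroup.nontrivial_iff_card
      (P.isPGroup'.to_subgroup (R' ⊓ Subgroup.center _))).1 inferInstance
    obtain ⟨⟨w, hw⟩, hwo⟩ := exists_prime_orderOf_dvd_card' p (hm ▸ dvd_pow_self p hm0.ne')
    rw [Subgroup.orderOf_mk, ← Subgroup.orderOf_coe] at hwo
    exact ⟨w, hw.1, fun y hy => congrArg Subtype.val (Subgroup.mem_center_iff.1 hw.2 ⟨y, hy⟩), hwo⟩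
  have hzp : z ^ p = 1 := hzo ▸ pow_orderOf_eq_one z
  have hxp : x ^ p = 1 := hx ▸ pow_orderOf_eq_one x
  have hzx : z ∉ Subgroup.zpowers x := fun h => hxR (by
    have e : Subgroup.zpowers z = Subgroup.zpowers x := Subgroup.eq_of_le_of_card_ge (Subgroup.zpowers_le.2 h)
      (by rw [Nat.card_zpowers, Nat.card_zpowers, hx, hzo])
    exact (Subgroup.zpowers_le.2 hzR) (e.ge (Subgroup.mem_zpowers x)))
  have hx1 : x ≠ 1 := fun e => hxR (e ▸ one_mem R)
  have hz1 : z ≠ 1 := fun e => hzx (e ▸ one_mem _)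
  have hxz : x * z = z * x := hzc x hxP
  set E := Subgroup.closure ({x, z} : Set G) with hE
  have hzE : z ∈ E := Subgroup.subset_closure (Or.inr rfl)
  have hER : E ⊓ R = Subgroup.zpowers z := by
    refine (Subgroup.eq_of_le_of_card_ge (le_inf (Subgroup.zpowers_le.2 hzE)
      (Subgroup.zpowers_le.2 hzR)) ?_).symm
    rw [Nat.card_zpowers, hzo]
    haveI hEc : IsMulCommutative E := Subgroup.isMulCommutative_closure (by
      rintro u (rfl | rfl) v (rfl | rfl) <;> first | rfl | exact hxz | exact hxz.symm)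
    have hEp : ∀ y ∈ E, y ^ p = 1 := fun y hy => pow_eq_one_of_mem_closure hxz hxp hzp hy
    have hEg : IsPGroup p E := fun c => ⟨1, Subtype.ext (by rw [pow_one, Subgroup.coe_pow]; exact hEp c c.2)⟩
    obtain ⟨i, hi⟩ := IsPGroup.iff_card.1 (hEg.to_le (inf_le_left : E ⊓ R ≤ E))
    have hlt : Nat.card ↥(E ⊓ R) < Nat.card E := lt_of_le_of_ne (Subgroup.card_le_of_le inf_le_left)
      fun e => hxR ((Subgroup.eq_of_le_of_card_ge inf_le_left e.ge).ge (Subgroup.subset_closure (Or.inl rfl))).2
    have hEle := hrank E hEc hEp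
    rw [hi] at hlt ⊢
    have : i < 2 := (Nat.pow_lt_pow_iff_right hp.out.one_lt).1 (lt_of_lt_of_le hlt hEle)
    calc p ^ i ≤ p ^ 1 := Nat.pow_le_pow_right hp.out.pos (by omega)
      _ = p := pow_one p
  have hmemz : ∀ y ∈ R, y ^ p = 1 → y ∈ Subgroup.zpowers z := fun y hy hyp => by
    rw [← hER]
    exact ⟨mem_pair hrank hxp hzp hyp hx1 hzx hxz (commute_sylow hiso P hxP (hRP hy))
      (hzc y (hRP hy)), hy⟩
  haveI hZn : (Subgroup.zpowers z).Normal := ⟨fun w hw g => by
    have hwR : w ∈ R := (Subgroup.zpowers_le.2 hzR) hw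
    refine hmemz _ (hRn.conj_mem w hwR g) ?_
    obtain ⟨k, rfl⟩ := hw
    rw [conj_pow, ← zpow_natCast, ← zpow_mul, mul_comm, zpow_mul, zpow_natCast, hzp, one_zpow]
    group⟩
  -- the centralizer of `z`
  set G0 := Subgroup.centralizer ((Subgroup.zpowers z : Subgroup G) : Set G) with hG0
  haveI hG0n : G0.Normal := inferInstance
  have hxG0 : x ∈ G0 := Subgroup.mem_centralizer_iff.2 fun w hw => by
    obtain ⟨k, rfl⟩ := hw
    exact ((show Commute x z from hxz).zpow_right k).eq.symm
  have hzG0 : z ∈ G0 := Subgroup.mem_centralizer_iff.2 fun w hw => by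
    obtain ⟨k, rfl⟩ := hw
    exact ((Commute.refl z).zpow_left k).eq
  have hzcen : (⟨z, hzG0⟩ : G0) ∈ Subgroup.center G0 := Subgroup.mem_center_iff.2 fun c =>
    Subtype.ext (Subgroup.mem_centralizer_iff.1 c.2 z (Subgroup.mem_zpowers z)).symm
  have hnpc : Cfsg.HasNormalPComplement p G0 := by
    refine npc_of_central hp2 (rank_sub hrank G0) (x := ⟨x, hxG0⟩) (z := ⟨z, hzG0⟩)
      (by rw [Subgroup.orderOf_mk, hx]) (isolated_sub hiso hxG0) (Subtype.ext hzp) ?_ hzcen
    rintro ⟨k, hk⟩
    exact hzx ⟨k, congrArg Subtype.val hk⟩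
  have hG0core : Cfsg.pPrimeCore p G0 = ⊥ := by
    rw [← Subgroup.map_eq_bot_iff_of_injective (f := G0.subtype) _ G0.subtype_injective, ← le_bot_iff, ← hcore]
    refine Components.subnormal_le_pPrimeCore
      ((Cfsg.pPrimeCore_normal p ↥G0).isSubnormal.trans' hG0n.isSubnormal) ?_
    rw [Subgroup.card_map_of_injective G0.subtype_injective]
    exact PBasic.pPrimeCore_coprime p G0
  exact hxR (PBasic.le_pCore hG0n (isPGroup_of_npc hG0core hnpc) hxG0)

theorem fitting_eq_bot (hcore : Cfsg.pPrimeCore p G = ⊥) (hO : Cfsg.pCore p G = ⊥) :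
    Cfsg.fittingSubgroup G = ⊥ := by
  haveI := Components.fittingSubgroup_normal (G := G)
  haveI := Components.fittingSubgroup_nilpotent (G := G)
  rw [← Subgroup.card_eq_one]
  by_contra hne
  obtain ⟨q, hq, hqd⟩ := Nat.exists_prime_and_dvd hne
  haveI := Fact.mk hq
  obtain ⟨Q⟩ : Nonempty (Sylow q ↥(Cfsg.fittingSubgroup G)) := inferInstance
  haveI : (Q : Subgroup ↥(Cfsg.fittingSubgroup G)).Normal :=
    Sylow.normal_of_normalizerCondition Group.normalizerCondition_of_isNilpotent Q
  haveI := Q.characteristic_of_normal inferInstance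
  apply Q.ne_bot_of_dvd_card hqd
  rw [← Subgroup.map_eq_bot_iff_of_injective (f := (Cfsg.fittingSubgroup G).subtype) _ Subtype.coe_injective,
    ← le_bot_iff]
  by_cases hqp : q = p
  · subst hqp
    rw [← hO]
    exact PBasic.le_pCore inferInstance (Q.isPGroup'.map _)
  · rw [← hcore]
    refine PBasic.le_pPrimeCore inferInstance ?_
    obtain ⟨n, hn⟩ := IsPGroup.iff_card.1 (Q.isPGroup'.map (Cfsg.fittingSubgroup G).subtype)
    rw [hn]
    exact ((Nat.coprime_primes hq hp.out).2 hqp).pow_left n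

theorem layer_simple (hp2 : p ≠ 2) (hcore : Cfsg.pPrimeCore p G = ⊥) (hrank : Cfsg.PRankLE p 2 G)
    (hx : orderOf x = p) (hiso : Cfsg.IsIsolated x) (hnc : x ∉ Subgroup.center G) :
    IsSimpleGroup ↥(Cfsg.generalizedFittingSubgroup G) ∧
      ¬ IsMulCommutative ↥(Cfsg.generalizedFittingSubgroup G) := by
  classical
  have hO := pCore_eq_bot hp2 hcore hrank hx hiso hnc
  have hF := fitting_eq_bot hcore hO
  have hFs : Cfsg.generalizedFittingSubgroup G = Cfsg.layer G := by
    rw [Cfsg.generalizedFittingSubgroup, hF, sup_bot_eq]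
  -- components are simple
  have hZ : ∀ L : Subgroup G, Cfsg.IsComponent L → L ⊓ Subgroup.centralizer (L : Set G) = ⊥ := by
    intro L hL
    letI : CommGroup ↥(Subgroup.center ↥L) :=
      { (inferInstance : Group ↥(Subgroup.center ↥L)) with
        mul_comm := fun a b => Subtype.ext (Subgroup.mem_center_iff.1 b.2 a) }
    rw [← le_bot_iff, ← hF, ← Components.center_map_subtype]
    exact Components.subnormal_nilpotent_le_fitting
      ((inferInstance : (Subgroup.center ↥L).Normal).isSubnormal.trans' hL.1)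
      (Group.nilpotent_of_mulEquiv ((Subgroup.center ↥L).equivMapOfInjective _ L.subtype_injective))
  have hsimple : ∀ L : Subgroup G, Cfsg.IsComponent L → IsSimpleGroup ↥L := by
    intro L hL
    have hc : Subgroup.center ↥L = ⊥ := by
      rw [← Subgroup.map_eq_bot_iff_of_injective (f := L.subtype) _ L.subtype_injective,
        Components.center_map_subtype, hZ L hL]
    haveI := hL.2.2
    exact ((QuotientGroup.quotientMulEquivOfEq hc).trans QuotientGroup.quotientBot).isSimpleGroup_congr.1 inferInstance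
  have hdvd : ∀ L : Subgroup G, Cfsg.IsComponent L → p ∣ Nat.card L := by
    intro L hL
    by_contra h
    exact Components.component_ne_bot hL (le_bot_iff.1 (hcore ▸ Components.subnormal_le_pPrimeCore hL.1
      ((hp.out.coprime_iff_not_dvd.2 h).symm)))
  have huniq : ∀ L M : Subgroup G, Cfsg.IsComponent L → Cfsg.IsComponent M → L = M := by
    intro L M hL hM
    by_contra hne
    have hcomm := Subgroup.commutator_eq_bot_iff_le_centralizer.1 (Components.components_commute hL hM hne)
    have hinf : ∀ u ∈ L, u ∈ M → u = 1 := fun u huL huM => by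
      rw [← Subgroup.mem_bot, ← hZ L hL]
      refine ⟨huL, Subgroup.mem_centralizer_iff.2 fun v hv => ?_⟩
      exact (Subgroup.mem_centralizer_iff.1 (hcomm hv) u huM).symm
    -- central elements of order `p` in Sylow subgroups
    have hex : ∀ N : Subgroup G, Cfsg.IsComponent N → ∃ (PN : Sylow p ↥N) (a : G), a ∈ N ∧ orderOf a = p ∧
        a ∈ (PN : Subgroup ↥N).map N.subtype ∧
        ∀ y ∈ (PN : Subgroup ↥N).map N.subtype, y * a = a * y := by
      intro N hN
      obtain ⟨PN⟩ : Nonempty (Sylow p ↥N) := inferInstance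
      haveI : Nontrivial ↥(PN : Subgroup ↥N) :=
        (Subgroup.nontrivial_iff_ne_bot _).2 (PN.ne_bot_of_dvd_card (hdvd N hN))
      haveI := PN.isPGroup'.center_nontrivial
      obtain ⟨m, hm0, hm⟩ := (IsPGroup.nontrivial_iff_card
        (PN.isPGroup'.to_subgroup (Subgroup.center _))).1 inferInstance
      obtain ⟨⟨⟨w, hw⟩, hwc⟩, hwo⟩ := exists_prime_orderOf_dvd_card' p (hm ▸ dvd_pow_self p hm0.ne')
      rw [Subgroup.orderOf_mk, Subgroup.orderOf_mk, ← Subgroup.orderOf_coe] at hwo
      refine ⟨PN, w, w.2, hwo, ⟨w, hw, rfl⟩, ?_⟩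
      rintro _ ⟨y, hy, rfl⟩
      exact congrArg (fun c : (PN : Subgroup ↥N) => ((c : ↥N) : G)) (Subgroup.mem_center_iff.1 hwc ⟨y, hy⟩)
    obtain ⟨PL, a, haL, hao, haP, -⟩ := hex L hL
    obtain ⟨PM, b, hbM, hbo, hbP, -⟩ := hex M hM
    set TL := (PL : Subgroup ↥L).map L.subtype with hTL
    set TM := (PM : Subgroup ↥M).map M.subtype with hTM
    have hnorm : TL ≤ Subgroup.normalizer (TM : Set G) := le_trans (fun y hy =>
      Subgroup.centralizer_le (SetLike.coe_subset_coe.2 (Subgroup.map_subtype_le _ : TM ≤ M))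
        (hcomm ((Subgroup.map_subtype_le _ : TL ≤ L) hy))) (Subgroup.centralizer_le_normalizer _)
    obtain ⟨Q, hQ⟩ := (IsPGroup.to_sup_of_normal_right' (PL.isPGroup'.map L.subtype)
      (PM.isPGroup'.map M.subtype) hnorm).exists_le_sylow
    obtain ⟨k, hk⟩ : ∃ k : G, k * x * k⁻¹ ∈ (Q : Subgroup G) := by
      obtain ⟨P, hP⟩ := (IsolatedP.isPGroup_zpowers (p := p) (x := x) ⟨1, by rw [hx, pow_one]⟩).exists_le_sylow
      obtain ⟨k, hk⟩ := MulAction.exists_smul_eq G P Q
      refine ⟨k, ?_⟩
      rw [← hk, Sylow.coe_subgroup_smul]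
      exact ⟨x, hP (Subgroup.mem_zpowers x), rfl⟩
    set x' := k * x * k⁻¹ with hx'
    have hiso' := isolated_conj hiso k
    have hx'o : orderOf x' = p := by rw [hx', IsolatedP.orderOf_conj', hx]
    have haQ : a ∈ (Q : Subgroup G) := hQ (Subgroup.mem_sup_left haP)
    have hbQ : b ∈ (Q : Subgroup G) := hQ (Subgroup.mem_sup_right hbP)
    have hap : a ^ p = 1 := hao ▸ pow_orderOf_eq_one a
    have hbp : b ^ p = 1 := hbo ▸ pow_orderOf_eq_one b
    have ha1 : a ≠ 1 := fun e => by rw [e, orderOf_one] at hao; exact hp.out.ne_one hao.symm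
    have hb1 : b ≠ 1 := fun e => by rw [e, orderOf_one] at hbo; exact hp.out.ne_one hbo.symm
    have hab : a * b = b * a := (Subgroup.mem_centralizer_iff.1 (hcomm haL) b hbM).symm
    have hba : b ∉ Subgroup.zpowers a := fun h => hb1 (hinf b ((Subgroup.zpowers_le.2 haL) h) hbM)
    have hxE := mem_pair hrank hap hbp (hx'o ▸ pow_orderOf_eq_one x') ha1 hba hab
      (commute_sylow hiso' Q hk haQ).symm (commute_sylow hiso' Q hk hbQ).symm
    have hza : Subgroup.zpowers a ≤ Subgroup.centralizer ({b} : Set G) :=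
      Subgroup.zpowers_le.2 (Subgroup.mem_centralizer_singleton_iff.2 hab)
    obtain ⟨i, j, hij⟩ : ∃ i j : ℤ, x' = a ^ i * b ^ j := by
      suffices hgen : ∀ t ∈ Subgroup.closure ({a, b} : Set G), ∃ i j : ℤ, t = a ^ i * b ^ j from hgen _ hxE
      intro t ht
      induction ht using Subgroup.closure_induction with
      | mem c hc =>
        rcases hc with rfl | rfl
        · exact ⟨1, 0, by simp⟩
        · exact ⟨0, 1, by simp⟩
      | one => exact ⟨0, 0, by simp⟩
      | mul c d _ _ ihc ihd =>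
        obtain ⟨i, j, rfl⟩ := ihc
        obtain ⟨i', j', rfl⟩ := ihd
        refine ⟨i + i', j + j', ?_⟩
        have hcm : Commute (b ^ j) (a ^ i') := ((show Commute b a from hab.symm).zpow_zpow j i')
        rw [zpow_add, zpow_add, mul_assoc (a ^ i), ← mul_assoc (b ^ j), hcm.eq]
        group
      | inv c _ ihc =>
        obtain ⟨i, j, rfl⟩ := ihc
        refine ⟨-i, -j, ?_⟩
        rw [mul_inv_rev, ← zpow_neg, ← zpow_neg]
        exact ((show Commute b a from hab.symm).zpow_zpow _ _).eq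
    -- the projection of `x'` into a component is isolated there
    have key : ∀ (N N' : Subgroup G), Cfsg.IsComponent N → ∀ u ∈ N, ∀ v ∈ N', x' = u * v → u ≠ 1 →
        (∀ n ∈ N, ∀ m ∈ N', n * m = m * n) → ∀ w ∈ N', orderOf w = p →
        (∀ c ∈ N, c ∈ N' → c = 1) → False := by
      intro N N' hN u hu v hv huv hu1 hNN w hw hwo hdis
      have hup : u ^ p = 1 := by
        have h1 : u ^ p * v ^ p = 1 := by
          rw [← (show Commute u v from hNN u hu v hv).mul_pow, ← huv, ← hx'o, pow_orderOf_eq_one]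
        exact hdis _ (pow_mem hu p) (by
          rw [mul_eq_one_iff_eq_inv.1 h1]; exact inv_mem (pow_mem hv p))
      have hiu : Cfsg.IsIsolated (⟨u, hu⟩ : ↥N) := by
        intro g hg
        apply Subtype.ext
        have e : u * ((g : G) * u * (g : G)⁻¹) = (g : G) * u * (g : G)⁻¹ * u := congrArg Subtype.val hg
        have hgu : (g : G) * u * (g : G)⁻¹ ∈ N := mul_mem (mul_mem g.2 hu) (inv_mem g.2)
        have hgv : (g : G) * v = v * g := hNN _ g.2 v hv
        have hconj : (g : G) * x' * (g : G)⁻¹ = (g : G) * u * (g : G)⁻¹ * v := by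
          rw [huv]
          calc (g : G) * (u * v) * (g : G)⁻¹ = (g : G) * u * (v * (g : G)⁻¹) := by group
            _ = (g : G) * u * ((g : G)⁻¹ * v) := by rw [hNN _ (inv_mem g.2) v hv]
            _ = _ := by group
        have h1 := hiso' g (by
          show x' * ((g : G) * x' * (g : G)⁻¹) = (g : G) * x' * (g : G)⁻¹ * x'
          rw [hconj, huv]
          exact ((show Commute u _ from e).mul_right (show Commute u v from hNN u hu v hv)).mul_left
            ((show Commute v _ from (hNN _ hgu v hv).symm).mul_right (Commute.refl v)))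
        rw [hconj] at h1
        exact mul_right_cancel (h1.trans huv)
      have hw1 : w ≠ 1 := fun e => by rw [e, orderOf_one] at hwo; exact hp.out.ne_one hwo.symm
      have hrk : Cfsg.PRankLE p 1 ↥N := by
        intro A hA hAp
        set A' := A.map N.subtype with hA'
        have hcl : A' ≤ Subgroup.centralizer ((Subgroup.zpowers w : Subgroup G) : Set G) := by
          rintro _ ⟨c, -, rfl⟩ t ⟨e, rfl⟩
          exact (hNN _ c.2 _ ((Subgroup.zpowers_le.2 hw) ⟨e, rfl⟩)).symm
        haveI hAc' : IsMulCommutative ↥(A' ⊔ Subgroup.zpowers w) := by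
          rw [← Subgroup.closure_eq A', ← Subgroup.closure_eq (Subgroup.zpowers w), ← Subgroup.closure_union]
          refine Subgroup.isMulCommutative_closure ?_
          rintro c (⟨c, hc, rfl⟩ | hc) d (⟨d, hd, rfl⟩ | hd)
          · exact congrArg (fun t : A => ((t : ↥N) : G)) (hA.is_comm.comm ⟨c, hc⟩ ⟨d, hd⟩)
          · exact hNN _ c.2 d ((Subgroup.zpowers_le.2 hw) hd)
          · exact (hNN _ d.2 c ((Subgroup.zpowers_le.2 hw) hc)).symm
          · obtain ⟨e, rfl⟩ := hc
            obtain ⟨f, rfl⟩ := hd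
            exact ((Commute.refl w).zpow_zpow e f).eq
        have hexp : ∀ c ∈ A' ⊔ Subgroup.zpowers w, c ^ p = 1 := by
          intro c hc
          rw [← Subgroup.closure_eq A', ← Subgroup.closure_eq (Subgroup.zpowers w), ← Subgroup.closure_union] at hc
          induction hc using Subgroup.closure_induction with
          | mem d hd =>
            rcases hd with ⟨d, hd, rfl⟩ | ⟨e, rfl⟩
            · rw [← map_pow, hAp d hd, map_one]
            · rw [← zpow_natCast, ← zpow_mul, mul_comm, zpow_mul, zpow_natCast, ← hwo, pow_orderOf_eq_one,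
                one_zpow]
          | one => exact one_pow p
          | mul c d hc hd ihc ihd =>
            rw [Subgroup.closure_union, Subgroup.closure_eq, Subgroup.closure_eq] at hc hd
            have hcd : Commute c d := congrArg Subtype.val (hAc'.is_comm.comm
              (⟨c, hc⟩ : ↥(A' ⊔ Subgroup.zpowers w)) ⟨d, hd⟩)
            rw [hcd.mul_pow, ihc, ihd, one_mul]
          | inv c _ ihc => rw [inv_pow, ihc, inv_one]
        have hle := hrank _ hAc' hexp
        have hne : A' ≠ A' ⊔ Subgroup.zpowers w := fun e =>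
          hw1 (hdis w ((Subgroup.map_subtype_le A) (e.ge (Subgroup.mem_sup_right (Subgroup.mem_zpowers w)))) hw)
        have hlt : Nat.card A' < Nat.card ↥(A' ⊔ Subgroup.zpowers w) :=
          lt_of_le_of_ne (Subgroup.card_le_of_le le_sup_left)
            fun e => hne (Subgroup.eq_of_le_of_card_ge le_sup_left e.ge)
        have hA'g : IsPGroup p A' := fun c => ⟨1, Subtype.ext (by
          rw [pow_one, Subgroup.coe_pow]; exact hexp c (Subgroup.mem_sup_left c.2))⟩
        obtain ⟨n, hn⟩ := IsPGroup.iff_card.1 hA'g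
        rw [hn] at hlt
        rw [← Subgroup.card_map_of_injective (K := A) N.subtype_injective, ← hA', hn]
        exact Nat.pow_le_pow_right hp.out.pos
          (Nat.lt_succ_iff.1 ((Nat.pow_lt_pow_iff_right hp.out.one_lt).1 (lt_of_lt_of_le hlt hle)))
      have hz := S2971.result hp2 hrk (⟨u, hu⟩ : ↥N)
        (by rw [Subgroup.orderOf_mk]; exact orderOf_eq_prime hup hu1) hiu
      haveI := hsimple N hN
      have hNcore : Cfsg.pPrimeCore p ↥N = ⊥ := by
        rcases (Cfsg.pPrimeCore_normal p ↥N).eq_bot_or_eq_top with h | h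
        · exact h
        · have := PBasic.pPrimeCore_coprime p ↥N
          rw [h, Subgroup.card_top] at this
          exact absurd (hdvd N hN) (hp.out.coprime_iff_not_dvd.1 this.symm)
      have hcu : u ∈ N ⊓ Subgroup.centralizer (N : Set G) := by
        refine ⟨hu, Subgroup.mem_centralizer_iff.2 fun t ht => ?_⟩
        have := hz ⟨t, ht⟩
        rw [hNcore, Subgroup.mem_bot, mul_inv_eq_one, mul_inv_eq_iff_eq_mul] at this
        exact congrArg Subtype.val this
      rw [hZ N hN, Subgroup.mem_bot] at hcu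
      exact hu1 hcu
    have hLM : ∀ n ∈ L, ∀ m ∈ M, n * m = m * n := fun n hn m hm =>
      (Subgroup.mem_centralizer_iff.1 (hcomm hn) m hm).symm
    by_cases hi : a ^ i = 1
    · refine key M L hM (b ^ j) (zpow_mem hbM j) 1 (one_mem L) (by rw [hij, hi, one_mul, mul_one]) ?_
        (fun m hm n hn => (hLM n hn m hm).symm) a haL hao (fun c h1 h2 => hinf c h2 h1)
      intro e
      rw [hij, hi, e, one_mul, orderOf_one] at hx'o
      exact hp.out.ne_one hx'o.symm
    · exact key L M hL (a ^ i) (zpow_mem haL i) (b ^ j) (zpow_mem hbM j) hij hi hLM b hbM hbo hinf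
  obtain ⟨L, hL⟩ : ∃ L : Subgroup G, Cfsg.IsComponent L := by
    by_contra h
    push Not at h
    have hbot : Cfsg.layer G = ⊥ := le_bot_iff.1 (Components.layer_le_iff.2 fun L hL => absurd hL (h L))
    have hc := Components.centralizer_generalizedFitting_le (G := G)
    rw [hFs, hbot] at hc
    have hx1 : x ∈ (⊥ : Subgroup G) := hc (Subgroup.mem_centralizer_iff.2 fun t ht => by
      rw [Subgroup.coe_bot, Set.mem_singleton_iff] at ht
      rw [ht, one_mul, mul_one])
    rw [Subgroup.mem_bot.1 hx1, orderOf_one] at hx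
    exact hp.out.ne_one hx.symm
  have heq : Cfsg.generalizedFittingSubgroup G = L := by
    rw [hFs]
    exact le_antisymm (Components.layer_le_iff.2 fun M hM => (huniq M L hM hL).le)
      (Components.component_le_layer hL)
  rw [heq]
  refine ⟨hsimple L hL, fun h => Components.component_ne_bot hL ?_⟩
  rw [← Components.component_commutator_eq hL, Subgroup.commutator_eq_bot_iff_le_centralizer]
  exact fun u hu v hv => congrArg Subtype.val (h.is_comm.comm (⟨v, hv⟩ : L) ⟨u, hu⟩)

end Cfsg.Agent.IsoRankTwo
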