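/-
An element commuting with no other conjugate and centralising every p'-subgroup it normalises is central.
-/
import Cfsg.Agent.Lib.Char.FrobeniusKernel
import Cfsg.Agent.Lib.Transfer.Fusion

namespace Cfsg.Agent.IsolatedCentral

open Subgroup

universe u

theorem mem_center {p : ℕ} [Fact p.Prime] : ∀ (n : ℕ) (G : Type u) [Group G] [Finite G],
    Nat.card G = n → ∀ x : G, IsPGroup p (zpowers x) →
      (∀ g : G, g * x * g⁻¹ * x = x * (g * x * g⁻¹) → g * x * g⁻¹ = x) →
      (∀ H : Subgroup G, (Nat.card H).Coprime p → (∀ h ∈ H, x * h * x⁻¹ ∈ H) →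
        ∀ h ∈ H, x * h = h * x) →
      x ∈ center G := by
  intro n
  induction n using Nat.strong_induction_on with
  | _ n ih =>
    intro G _ _ hn x hxp hweak hb
    have hp : p.Prime := Fact.out
    set C := centralizer ({x} : Set G) with hCdef
    have hmemC : ∀ {g : G}, g ∈ C ↔ x * g = g * x := by
      intro g
      exact ⟨fun h => mem_centralizer_iff.1 h x rfl,
        fun h => mem_centralizer_iff.2 fun y hy => by rw [Set.mem_singleton_iff.1 hy]; exact h⟩
    by_contra hx
    have hCne : C ≠ ⊤ := fun h => hx (Subgroup.mem_center_iff.2 fun g =>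
      (hmemC.1 (h ▸ mem_top g)).symm)
    have hxC : x ∈ C := hmemC.2 rfl
    have hsub : ∀ M : Subgroup G, x ∈ M → M ≠ ⊤ → M ≤ C := by
      intro M hxM hM
      have hlt : Nat.card M < n := hn ▸ lt_of_le_of_ne (card_le_card_group M)
        (fun h => hM (eq_top_of_card_eq M h))
      have hp' : IsPGroup p (zpowers (⟨x, hxM⟩ : M)) := by
        intro y
        obtain ⟨i, hi⟩ := mem_zpowers_iff.1 y.2
        obtain ⟨k, hk⟩ := hxp ⟨x ^ i, zpow_mem (mem_zpowers x) i⟩
        refine ⟨k, Subtype.ext (Subtype.ext ?_)⟩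
        have hk' : (x ^ i) ^ p ^ k = 1 := congrArg Subtype.val hk
        have hi' : x ^ i = ((y : M) : G) := congrArg Subtype.val hi
        rw [SubmonoidClass.coe_pow, SubmonoidClass.coe_pow, ← hi', hk']
        rfl
      have := ih _ hlt M rfl ⟨x, hxM⟩ hp'
        (fun g hg => Subtype.ext (hweak g (congrArg Subtype.val hg)))
        (fun H hH hnorm h hh => by
          refine Subtype.ext ?_
          refine hb (H.map M.subtype) (by rwa [card_map_of_injective M.subtype_injective]) ?_ h ⟨h, hh, rfl⟩
          rintro _ ⟨h', hh', rfl⟩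
          exact ⟨_, hnorm h' hh', rfl⟩)
      intro m hm
      exact hmemC.2 (congrArg Subtype.val (Subgroup.mem_center_iff.1 this ⟨m, hm⟩)).symm
    set f := QuotientGroup.mk' (center G) with hf
    have hfs : Function.Surjective f := QuotientGroup.mk'_surjective _
    set Cb := C.map f with hCb
    have hZC : center G ≤ C := center_le_centralizer _
    have hpre : ∀ {g : G}, f g ∈ Cb → g ∈ C := by
      rintro g ⟨c, hc, e⟩
      simpa using mul_mem hc (hZC ((QuotientGroup.eq).1 e))
    have hmal : Char.Malnormal Cb := by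
      intro gb hgb hb' hhb hconj
      obtain ⟨g, rfl⟩ := hfs gb
      obtain ⟨a, ha, rfl⟩ := hhb
      rw [← map_inv, ← map_mul, ← map_mul] at hconj
      by_contra hne
      have haZ : a ∉ center G := fun h => hne ((QuotientGroup.eq_one_iff a).2 h)
      set b := g * a * g⁻¹ with hbdef
      have hbC : b ∈ C := hpre hconj
      have hbZ : b ∉ center G := fun h => haZ (by
        simpa [hbdef, mul_assoc] using (inferInstance : (center G).Normal).conj_mem b h g⁻¹)
      have hxb : x ∈ centralizer ({b} : Set G) :=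
        mem_centralizer_iff.2 fun y hy => by rw [Set.mem_singleton_iff.1 hy]; exact (hmemC.1 hbC).symm
      have hCbne : centralizer ({b} : Set G) ≠ ⊤ := fun h => hbZ (Subgroup.mem_center_iff.2 fun y =>
        (mem_centralizer_iff.1 (h ▸ mem_top y : y ∈ centralizer ({b} : Set G)) b rfl).symm)
      have hy : g * x * g⁻¹ ∈ centralizer ({b} : Set G) :=
        mem_centralizer_iff.2 fun y hy => by
          rw [Set.mem_singleton_iff.1 hy, hbdef]
          calc g * a * g⁻¹ * (g * x * g⁻¹) = g * (a * x) * g⁻¹ := by group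
            _ = g * (x * a) * g⁻¹ := by rw [← hmemC.1 ha]
            _ = g * x * g⁻¹ * (g * a * g⁻¹) := by group
      have heq := hweak g (hmemC.1 (hsub _ hxb hCbne hy)).symm
      refine hgb ⟨g, hmemC.2 ?_, rfl⟩
      rw [mul_inv_eq_iff_eq_mul] at heq
      exact heq.symm
    obtain ⟨Kb, hKn, hKC, hcomp, -⟩ := Char.exists_frobenius_kernel hmal
    have hx' : f x ≠ 1 := fun h => hx ((QuotientGroup.eq_one_iff x).1 h)
    have hpK : ¬ p ∣ Nat.card Kb := by
      rw [← hcomp.index_eq_card]
      intro hd
      let X := zpowers (f x)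
      have hXC : X ≤ Cb := zpowers_le.2 ⟨x, hxC, rfl⟩
      have hXp : IsPGroup p X := by
        have h := hxp.map f
        rwa [MonoidHom.map_zpowers] at h
      have hfix : MulAction.fixedPoints X ((G ⧸ center G) ⧸ Cb) = {QuotientGroup.mk 1} := by
        ext q
        constructor
        · intro hq
          obtain ⟨g, rfl⟩ := QuotientGroup.mk_surjective q
          rw [Set.mem_singleton_iff, QuotientGroup.eq, mul_one, inv_mem_iff]
          by_contra hgC
          have h1 : (QuotientGroup.mk (f x * g) : (G ⧸ center G) ⧸ Cb) = QuotientGroup.mk g :=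
            hq ⟨f x, mem_zpowers _⟩
          rw [QuotientGroup.eq] at h1
          refine hx' (hmal g⁻¹ (fun h => hgC (inv_mem_iff.1 h)) (f x) ⟨x, hxC, rfl⟩ ?_)
          simpa [mul_assoc] using inv_mem h1
        · rintro rfl ⟨m, hm⟩
          show (QuotientGroup.mk (m * 1) : (G ⧸ center G) ⧸ Cb) = QuotientGroup.mk 1
          rw [QuotientGroup.eq]
          simpa using inv_mem (hXC hm)
      have := hXp.card_modEq_card_fixedPoints ((G ⧸ center G) ⧸ Cb)
      rw [hfix, Nat.card_eq_fintype_card (α := ({QuotientGroup.mk 1} : Set ((G ⧸ center G) ⧸ Cb))),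
        Fintype.card_unique] at this
      have h2 : 0 % p = 1 % p := (Nat.modEq_zero_iff_dvd.2 hd).symm.trans this
      rw [Nat.zero_mod, Nat.one_mod_eq_one.2 hp.ne_one] at h2
      exact zero_ne_one h2
    set K := Kb.comap f with hKdef
    have hKnorm : K.Normal := hKn.comap f
    have hKle : K ≤ C := by
      obtain ⟨P⟩ := (inferInstance : Nonempty (Sylow p K))
      have hPZ : ∀ y ∈ (P : Subgroup K), (y : G) ∈ center G := by
        intro y hy
        rw [← QuotientGroup.eq_one_iff]
        refine PBasic.eq_one_of_isPGroup_of_coprime (p := p) (((P.isPGroup'.map K.subtype).map f))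
          ⟨_, ⟨y, hy, rfl⟩, rfl⟩ (PBasic.coprime_orderOf_of_mem ((hp.coprime_iff_not_dvd.2 hpK).symm) ?_)
        exact y.2
      have hcomp' : Cfsg.HasNormalPComplement p K := by
        refine Fusion.hasNormalPComplement_of_normalizer_le_centralizer P fun g _ => ?_
        exact mem_centralizer_iff.2 fun y hy => Subtype.ext
          ((Subgroup.mem_center_iff.1 (hPZ y hy)) g).symm
      have htop := PBasic.sylow_sup_eq_top P (PBasic.quotient_pPrimeCore_isPGroup hcomp')
      have hmap := congrArg (Subgroup.map K.subtype) htop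
      rw [Subgroup.map_sup, ← MonoidHom.range_eq_map, range_subtype] at hmap
      rw [← hmap]
      refine sup_le ?_ ?_
      · rintro _ ⟨y, hy, rfl⟩; exact hZC (hPZ y hy)
      · intro l hl
        refine hmemC.2 (hb _ ?_ (fun h hh => ?_) l hl)
        · rw [card_map_of_injective K.subtype_injective]; exact PBasic.pPrimeCore_coprime p K
        · have := PBasic.pPrimeCore_characteristic p K
          exact (inferInstance : ((Cfsg.pPrimeCore p K).map K.subtype).Normal).conj_mem h hh x
    refine hCne (eq_top_iff.2 fun g _ => ?_)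
    obtain ⟨⟨k, c⟩, e⟩ := hcomp.2 (f g)
    obtain ⟨k', hk'⟩ := hfs (k : G ⧸ center G)
    obtain ⟨c', hc', hc''⟩ := c.2
    have e' : (k : G ⧸ center G) * (c : G ⧸ center G) = f g := e
    rw [← hk', ← hc'', ← map_mul] at e'
    have hk'' : k' ∈ K := show f k' ∈ Kb by rw [hk']; exact k.2
    have hmem := mul_mem (mul_mem (hKle hk'') hc') (hZC ((QuotientGroup.eq).1 e'))
    rwa [mul_inv_cancel_left] at hmem

end Cfsg.Agent.IsolatedCentral
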