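/-
Minimal counterexamples to the Z*_p statement.
-/
import Cfsg.Prelude.Def_IsolatedElements
import Cfsg.Agent.Lib.Isolated.Basic
import Cfsg.Agent.Lib.CharP.AxB
import Cfsg.Agent.Lib.Transfer.Fusion

set_option autoImplicit false
set_option linter.unusedSectionVars false

namespace Cfsg.Agent.IsolatedP

open scoped commutatorElement

variable {G : Type*} [Group G] [Finite G] {p : ℕ} [Fact p.Prime] {x : G}

/-- The hypothesis "minimal counterexample". -/
structure IsMinimalCounterexample (p : ℕ) (x : G) : Prop where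
  ord : orderOf x = p
  iso : Cfsg.IsIsolated x
  nz : ¬ Cfsg.InZStar p x
  sub : ∀ (H : Subgroup G) (hxH : x ∈ H), H ≠ ⊤ → Cfsg.InZStar p (⟨x, hxH⟩ : ↥H)
  quot : ∀ (N : Subgroup G) [N.Normal], N ≠ ⊥ → Cfsg.InZStar p (QuotientGroup.mk x : G ⧸ N)

theorem normal_of_centralizer {N : Subgroup G} [N.Normal] : (Subgroup.centralizer (N : Set G)).Normal := by
  refine ⟨fun c hc g n hn => ?_⟩
  have h := hc (g⁻¹ * n * g) (by simpa using Subgroup.Normal.conj_mem inferInstance n hn g⁻¹)
  calc n * (g * c * g⁻¹) = g * ((g⁻¹ * n * g) * c) * g⁻¹ := by group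
    _ = g * (c * (g⁻¹ * n * g)) * g⁻¹ := by rw [h]
    _ = g * c * g⁻¹ * n := by group

theorem pPrimeCore_map_le (N : Subgroup G) [N.Normal] :
    (Cfsg.pPrimeCore p ↥N).map N.subtype ≤ Cfsg.pPrimeCore p G :=
  AxB.le_pPrimeCore (by
    haveI := PBasic.pPrimeCore_characteristic p ↥N
    infer_instance) (AxB.coprime_card_pPrimeCoreOf p N)

variable (hC : IsMinimalCounterexample p x)
include hC

theorem IsMinimalCounterexample.exists_pow : ∃ k : ℕ, orderOf x = p ^ k := ⟨1, by rw [hC.ord, pow_one]⟩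

theorem IsMinimalCounterexample.pPrimeCore_eq_bot : Cfsg.pPrimeCore p G = ⊥ := by
  by_contra hne
  haveI := Cfsg.pPrimeCore_normal p G
  refine hC.nz fun g => ?_
  have h := hC.quot (Cfsg.pPrimeCore p G) hne (QuotientGroup.mk g)
  rw [PBasic.pPrimeCore_quotient_pPrimeCore p G, Subgroup.mem_bot] at h
  exact (QuotientGroup.eq_one_iff _).1 h

theorem IsMinimalCounterexample.not_central : ¬ ∀ g : G, g * x = x * g := fun h =>
  hC.nz fun g => by rw [h g, mul_inv_cancel_right, mul_inv_cancel]; exact one_mem _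

theorem IsMinimalCounterexample.centralizes {H N : Subgroup G} [N.Normal] (hxH : x ∈ H) (hNH : N ≤ H)
    (hH : H ≠ ⊤) : ∀ n ∈ N, n * x = x * n := by
  intro n hn
  have h := hC.sub H hxH hH ⟨n, hNH hn⟩
  have h1 : n * x * n⁻¹ * x⁻¹ ∈ (Cfsg.pPrimeCore p ↥H).map H.subtype := ⟨_, h, rfl⟩
  have h2 : n * x * n⁻¹ * x⁻¹ ∈ N := by
    rw [show n * x * n⁻¹ * x⁻¹ = n * (x * n⁻¹ * x⁻¹) by group]
    exact mul_mem hn (Subgroup.Normal.conj_mem inferInstance _ (inv_mem hn) x)
  have h3 : (Cfsg.pPrimeCore p ↥H).map H.subtype ⊓ N ≤ (Cfsg.pPrimeCore p ↥N).map N.subtype := by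
    refine AxB.le_pPrimeCoreOf inf_le_right ?_ (Nat.Coprime.coprime_dvd_left
      (Subgroup.card_dvd_of_le inf_le_left) (AxB.coprime_card_pPrimeCoreOf p H))
    refine fun a ha => ?_
    rw [← LEBasic.map_conj_eq_iff_mem_normalizer, Subgroup.map_inf _ _ _ (MulAut.conj a).injective,
      LEBasic.map_conj_eq_iff_mem_normalizer.2
        (AxB.le_normalizer_map_subtype (Cfsg.pPrimeCore_normal p ↥H) (hNH ha)),
      LEBasic.map_conj_eq_iff_mem_normalizer.2 (Subgroup.le_normalizer ha)]
  have h4 := pPrimeCore_map_le N (h3 (Subgroup.mem_inf.2 ⟨h1, h2⟩))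
  rw [hC.pPrimeCore_eq_bot, Subgroup.mem_bot, mul_inv_eq_one, mul_inv_eq_iff_eq_mul] at h4
  exact h4

theorem IsMinimalCounterexample.eq_top_of_normal {X : Subgroup G} [X.Normal] (hxX : x ∈ X) : X = ⊤ := by
  by_contra hX
  refine hC.not_central fun g => ?_
  have h := hC.centralizes hxX le_rfl hX (g * x * g⁻¹) (Subgroup.Normal.conj_mem inferInstance x hxX g)
  exact mul_inv_eq_iff_eq_mul.1 (hC.iso g h.symm)

theorem IsMinimalCounterexample.sup_zpowers_eq_top {N : Subgroup G} [N.Normal] (hN : N ≠ ⊥)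
    (hmin : ∀ M : Subgroup G, M.Normal → M ≤ N → M = ⊥ ∨ M = N) : N ⊔ Subgroup.zpowers x = ⊤ := by
  by_contra hne
  have hcen := hC.centralizes (Subgroup.mem_sup_right (Subgroup.mem_zpowers x)) le_sup_left hne
  haveI := normal_of_centralizer (N := N)
  have htop := hC.eq_top_of_normal (X := Subgroup.centralizer (N : Set G)) hcen
  have hNZ : ∀ n ∈ N, ∀ g : G, n * g = g * n := fun n hn g => by
    have : g ∈ Subgroup.centralizer (N : Set G) := htop ▸ Subgroup.mem_top g
    exact this n hn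
  refine hC.not_central fun g => ?_
  set K := (Cfsg.pPrimeCore p (G ⧸ N)).comap (QuotientGroup.mk' N) with hK
  have hg : g * x * g⁻¹ * x⁻¹ ∈ K := hC.quot N hN (QuotientGroup.mk g)
  have hgN : g * x * g⁻¹ * x⁻¹ ∈ N := by
    haveI := Cfsg.pPrimeCore_normal p (G ⧸ N)
    haveI hKn : K.Normal := inferInstance
    obtain ⟨a, b, hab, haz, hbz, ⟨i, hai⟩, hb⟩ := PBasic.exists_pPart_mul (p := p) (g * x * g⁻¹ * x⁻¹)
    have hNp : IsPGroup p ↥N := by
      rw [PBasic.isPGroup_iff_forall_coprime]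
      intro y hy
      have hy' : (orderOf (y : G)).Coprime p := by rwa [Subgroup.orderOf_coe]
      have hyn : (Subgroup.zpowers (y : G)).Normal := by
        refine ⟨fun w hw t => ?_⟩
        rw [← hNZ w ((Subgroup.zpowers_le.2 y.2) hw) t, mul_inv_cancel_right]
        exact hw
      have h1 := AxB.le_pPrimeCore (p := p) hyn (by rwa [Nat.card_zpowers])
      rw [hC.pPrimeCore_eq_bot] at h1
      exact Subtype.ext (Subgroup.mem_bot.1 (h1 (Subgroup.mem_zpowers (y : G))))
    have hNK : N ≤ K := fun n hn => by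
      show QuotientGroup.mk' N n ∈ Cfsg.pPrimeCore p (G ⧸ N)
      rw [show QuotientGroup.mk' N n = 1 from (QuotientGroup.eq_one_iff n).2 hn]
      exact one_mem _
    have hidx : ¬ p ∣ (N.subgroupOf K).index := by
      intro hd
      have h0 : N.relIndex K = Nat.card (Cfsg.pPrimeCore p (G ⧸ N)) := by
        have h1 := Subgroup.relIndex_mul_index hNK
        rw [hK, Subgroup.index_comap_of_surjective _ (QuotientGroup.mk'_surjective N),
          show N.index = Nat.card (G ⧸ N) from rfl, ← Subgroup.card_mul_index (Cfsg.pPrimeCore p (G ⧸ N))] at h1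
        exact Nat.eq_of_mul_eq_mul_right (Nat.pos_of_ne_zero Subgroup.index_ne_zero_of_finite) h1
      exact (Nat.Prime.coprime_iff_not_dvd Fact.out).1 (PBasic.pPrimeCore_coprime p (G ⧸ N)).symm (h0 ▸ hd)
    set P := (hNp.comap_of_injective K.subtype K.subtype_injective).toSylow hidx with hPdef
    have hnpc : Cfsg.HasNormalPComplement p ↥K :=
      Fusion.hasNormalPComplement_of_normalizer_le_centralizer P fun n _ y hy =>
        Subtype.ext (hNZ (y : G) hy n)
    have hres : (Cfsg.pResidual p ↥K).map K.subtype ≤ Cfsg.pPrimeCore p G := by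
      refine AxB.le_pPrimeCore (p := p) ?_ ?_
      · haveI := PBasic.pResidual_characteristic p ↥K
        infer_instance
      · rw [Subgroup.card_map_of_injective K.subtype_injective]
        exact PBasic.hasNormalPComplement_iff_pResidual.1 hnpc
    rw [hC.pPrimeCore_eq_bot] at hres
    have hbK : b ∈ K := (Subgroup.zpowers_le.2 hg) hbz
    have hb1 : b = 1 := Subgroup.mem_bot.1 (hres ⟨⟨b, hbK⟩,
      PBasic.mem_pResidual (by rwa [Subgroup.orderOf_mk]), rfl⟩)
    rw [hb1, mul_one] at hab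
    rw [← hab]
    have haK : QuotientGroup.mk' N a ∈ Cfsg.pPrimeCore p (G ⧸ N) := (Subgroup.zpowers_le.2 hg) haz
    have hao : orderOf (QuotientGroup.mk' N a) = 1 :=
      Nat.eq_one_of_dvd_coprimes
        (Nat.Coprime.pow_right i (PBasic.coprime_orderOf_of_mem (PBasic.pPrimeCore_coprime p (G ⧸ N)) haK))
        dvd_rfl (hai ▸ orderOf_map_dvd (QuotientGroup.mk' N) a)
    exact (QuotientGroup.eq_one_iff a).1 (orderOf_eq_one_iff.1 hao)
  have h := hNZ _ hgN x
  have h' : Commute x (g * x * g⁻¹) := by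
    show x * (g * x * g⁻¹) = g * x * g⁻¹ * x
    calc x * (g * x * g⁻¹) = x * (g * x * g⁻¹ * x⁻¹) * x := by group
      _ = g * x * g⁻¹ * x⁻¹ * x * x := by rw [← h]
      _ = g * x * g⁻¹ * x := by group
  exact mul_inv_eq_iff_eq_mul.1 (hC.iso g h')

theorem IsMinimalCounterexample.not_commutative : ¬ IsMulCommutative G := fun h =>
  hC.not_central fun g => h.is_comm.comm g x

theorem IsMinimalCounterexample.not_comm_of_minimal {N : Subgroup G} [N.Normal] (hN : N ≠ ⊥)
    (hmin : ∀ M : Subgroup G, M.Normal → M ≤ N → M = ⊥ ∨ M = N) : ¬ IsMulCommutative ↥N := by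
  intro hab
  letI : CommGroup ↥N := { (inferInstance : Group ↥N) with mul_comm := fun a b => hab.is_comm.comm a b }
  obtain ⟨T⟩ : Nonempty (Sylow p ↥N) := inferInstance
  haveI : (T : Subgroup ↥N).Normal := inferInstance
  haveI hTc : (T : Subgroup ↥N).Characteristic := T.characteristic_of_normal inferInstance
  have hTn : ((T : Subgroup ↥N).map N.subtype).Normal := inferInstance
  rcases hmin _ hTn (Subgroup.map_subtype_le _) with h | h
  · rw [Subgroup.map_eq_bot_iff_of_injective _ N.subtype_injective] at h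
    have hco : (Nat.card N).Coprime p := by
      rw [Nat.coprime_comm, (Fact.out : p.Prime).coprime_iff_not_dvd]
      exact fun hd => T.ne_bot_of_dvd_card hd h
    have h1 := AxB.le_pPrimeCore (p := p) (N := N) inferInstance hco
    rw [hC.pPrimeCore_eq_bot, le_bot_iff] at h1
    exact hN h1
  · have hNp : IsPGroup p ↥N := h ▸ T.isPGroup'.map N.subtype
    have hG : IsPGroup p ↥(⊤ : Subgroup G) := hC.sup_zpowers_eq_top hN hmin ▸
      IsPGroup.to_sup_of_normal_left hNp (isPGroup_zpowers hC.exists_pow)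
    exact hC.not_central fun g => commute_of_mem hC.iso hG (Subgroup.mem_top x) (Subgroup.mem_top g)

theorem IsMinimalCounterexample.simple_of_minimal {N : Subgroup G} [hNn : N.Normal] (hN : N ≠ ⊥)
    (hmin : ∀ M : Subgroup G, M.Normal → M ≤ N → M = ⊥ ∨ M = N) {L : Subgroup G} (hLN : L ≤ N)
    (hL : L ≠ ⊥) (hLn : N ≤ Subgroup.normalizer (L : Set G))
    (hLmin : ∀ M : Subgroup G, M ≤ L → N ≤ Subgroup.normalizer (M : Set G) → M = ⊥ ∨ M = L) : L = N := by
  have hpp : p.Prime := Fact.out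
  have hxp : x ^ p = 1 := hC.ord ▸ pow_orderOf_eq_one x
  have hx1 : x ≠ 1 := by rintro rfl; exact hC.not_central fun g => by simp
  have hnorm : ∀ M : Subgroup G, M ≤ N → N ≤ Subgroup.normalizer (M : Set G) →
      x ∈ Subgroup.normalizer (M : Set G) → M.Normal := fun M _ h1 h2 => by
    rw [← Subgroup.normalizer_eq_top_iff, eq_top_iff, ← hC.sup_zpowers_eq_top hN hmin]
    exact sup_le h1 (Subgroup.zpowers_le.2 h2)
  by_cases hxL : x ∈ Subgroup.normalizer (L : Set G)
  · exact (hmin L (hnorm L hLN hLn hxL) hLN).resolve_left hL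
  exfalso
  -- the conjugates of L
  let C : ℕ → Subgroup G := fun i => L.map (MulAut.conj (x ^ i)).toMonoidHom
  have hCN : ∀ i, C i ≤ N := by
    rintro i _ ⟨l, hl, rfl⟩
    exact hNn.conj_mem l (hLN hl) _
  have hCn : ∀ i, N ≤ Subgroup.normalizer (C i : Set G) := by
    intro i n hn
    rw [← LEBasic.map_conj_eq_iff_mem_normalizer, LEBasic.map_conj_map_conj,
      show n * x ^ i = x ^ i * ((x ^ i)⁻¹ * n * x ^ i) by group, ← LEBasic.map_conj_map_conj,
      LEBasic.map_conj_eq_iff_mem_normalizer.2 (hLn (by simpa using hNn.conj_mem n hn (x ^ i)⁻¹))]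
  have hne : ∀ i, 0 < i → i < p → C i ≠ L := by
    intro i h0 hi heq
    apply hxL
    have hxi : x ^ i ∈ Subgroup.normalizer (L : Set G) := LEBasic.map_conj_eq_iff_mem_normalizer.1 heq
    have hco : i.Coprime (orderOf x) := by
      rw [hC.ord, Nat.coprime_comm, hpp.coprime_iff_not_dvd]
      exact fun hd => absurd (Nat.le_of_dvd h0 hd) (not_le.2 hi)
    obtain ⟨k, hk⟩ := exists_pow_eq_self_of_coprime hco
    rw [← hk]; exact pow_mem hxi k
  have hdisj : ∀ i, 0 < i → i < p → ∀ a ∈ L, ∀ b ∈ C i, a * b = b * a := by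
    intro i h0 hi a ha b hb
    have hI : L ⊓ C i = ⊥ := by
      refine (hLmin (L ⊓ C i) inf_le_left fun n hn => ?_).resolve_right fun h => hne i h0 hi ?_
      · rw [← LEBasic.map_conj_eq_iff_mem_normalizer, Subgroup.map_inf _ _ _ (MulAut.conj n).injective,
          LEBasic.map_conj_eq_iff_mem_normalizer.2 (hLn hn),
          LEBasic.map_conj_eq_iff_mem_normalizer.2 (hCn i hn)]
      · exact (Subgroup.eq_of_le_of_card_ge (inf_eq_left.1 h) (by rw [LEBasic.card_map_conj])).symm
    have h1 : a * b * a⁻¹ * b⁻¹ ∈ L ⊓ C i := by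
      refine Subgroup.mem_inf.2 ⟨?_, mul_mem ((Subgroup.mem_normalizer_iff.1 (hCn i (hLN ha)) b).1 hb) (inv_mem hb)⟩
      rw [show a * b * a⁻¹ * b⁻¹ = a * (b * a⁻¹ * b⁻¹) by group]
      exact mul_mem ha ((Subgroup.mem_normalizer_iff.1 (hLn (hCN i hb)) a⁻¹).1 (inv_mem ha))
    rw [hI, Subgroup.mem_bot, mul_inv_eq_one, mul_inv_eq_iff_eq_mul] at h1
    exact h1
  -- the join of all conjugates is N
  have hCp : C p = L := by
    show L.map (MulAut.conj (x ^ p)).toMonoidHom = L
    rw [hxp, LEBasic.map_conj_one]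
  have hCmod : ∀ i, C i = C (i % p) := fun i => by
    show L.map _ = L.map _
    rw [← hC.ord, pow_mod_orderOf]
  have hC0 : C 0 = L := by show L.map _ = L; rw [pow_zero, LEBasic.map_conj_one]
  have hjoin : (⨆ i, C i) = N := by
    refine (hmin _ (hnorm _ (iSup_le hCN) (fun n hn => ?_) ?_) (iSup_le hCN)).resolve_left fun h =>
      hL (eq_bot_iff.2 (h ▸ hC0 ▸ le_iSup C 0))
    · rw [← LEBasic.map_conj_eq_iff_mem_normalizer, Subgroup.map_iSup]
      exact iSup_congr fun i => LEBasic.map_conj_eq_iff_mem_normalizer.2 (hCn i hn)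
    · rw [← LEBasic.map_conj_eq_iff_mem_normalizer, Subgroup.map_iSup]
      have e : ∀ i, (C i).map (MulAut.conj x).toMonoidHom = C (i + 1) := fun i => by
        show (L.map _).map _ = L.map _
        rw [LEBasic.map_conj_map_conj, ← pow_succ']
      refine le_antisymm (iSup_le fun i => (e i).le.trans (le_iSup C (i + 1))) (iSup_le fun i => ?_)
      have : C i = C ((i + p - 1) + 1) := by
        have := hpp.pos
        rw [show i + p - 1 + 1 = i + p by omega, hCmod (i + p), Nat.add_mod_right, ← hCmod]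
      rw [this, ← e]
      exact le_iSup (fun i => (C i).map (MulAut.conj x).toMonoidHom) (i + p - 1)
  -- L is not abelian
  have hLab : ∃ a ∈ L, ∃ b ∈ L, a * b ≠ b * a := by
    by_contra hcon
    push Not at hcon
    have hpair : ∀ i a, a ∈ L → ∀ b ∈ C i, a * b = b * a := by
      intro i a ha b hb
      rw [hCmod] at hb
      rcases Nat.eq_zero_or_pos (i % p) with h | h
      · rw [h, hC0] at hb; exact hcon a ha b hb
      · exact hdisj _ h (Nat.mod_lt _ hpp.pos) a ha b hb
    have hall : ∀ i j a, a ∈ C i → ∀ b ∈ C j, a * b = b * a := by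
      intro i j a ha b hb
      obtain ⟨a', ha', rfl⟩ := ha
      obtain ⟨b', hb', rfl⟩ := hb
      show x ^ i * a' * (x ^ i)⁻¹ * (x ^ j * b' * (x ^ j)⁻¹) = x ^ j * b' * (x ^ j)⁻¹ * (x ^ i * a' * (x ^ i)⁻¹)
      have hb'' : (x ^ i)⁻¹ * (x ^ j * b' * (x ^ j)⁻¹) * x ^ i ∈ C (j + (p - 1) * i) := by
        refine ⟨b', hb', ?_⟩
        show x ^ (j + (p - 1) * i) * b' * (x ^ (j + (p - 1) * i))⁻¹ = _
        have e : x ^ (j + (p - 1) * i) = (x ^ i)⁻¹ * x ^ j := by
          rw [eq_inv_mul_iff_mul_eq, ← pow_add, show i + (j + (p - 1) * i) = j + p * i by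
            obtain ⟨q, hq⟩ := Nat.exists_eq_add_of_le hpp.one_lt.le
            rw [hq, Nat.add_sub_cancel_left]; ring, pow_add, pow_mul, hxp, one_pow, mul_one]
        rw [e]; group
      have h := hpair _ a' ha' _ hb''
      calc x ^ i * a' * (x ^ i)⁻¹ * (x ^ j * b' * (x ^ j)⁻¹)
          = x ^ i * (a' * ((x ^ i)⁻¹ * (x ^ j * b' * (x ^ j)⁻¹) * x ^ i)) * (x ^ i)⁻¹ := by group
        _ = x ^ i * ((x ^ i)⁻¹ * (x ^ j * b' * (x ^ j)⁻¹) * x ^ i * a') * (x ^ i)⁻¹ := by rw [h]
        _ = _ := by group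
    refine hC.not_comm_of_minimal hN hmin ⟨⟨fun a b => Subtype.ext ?_⟩⟩
    have hcl : N ≤ Subgroup.centralizer (N : Set G) := by
      conv_lhs => rw [← hjoin]
      refine iSup_le fun i => fun c hc y hy => ?_
      have : N ≤ Subgroup.centralizer ({c} : Set G) := by
        conv_lhs => rw [← hjoin]
        exact iSup_le fun j d hd => Subgroup.mem_centralizer_singleton_iff.2 (hall j i d hd c hc)
      exact Subgroup.mem_centralizer_singleton_iff.1 (this hy)
    exact hcl b.2 (a : G) a.2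
  -- an element of order p in L
  have hLp : p ∣ Nat.card L := by
    by_contra hd
    haveI : (L.subgroupOf N).Normal := Subgroup.normal_subgroupOf_of_le_normalizer hLn
    have h1 : L ≤ (Cfsg.pPrimeCore p ↥N).map N.subtype := AxB.le_pPrimeCoreOf hLN hLn
      (Nat.coprime_comm.1 (hpp.coprime_iff_not_dvd.2 hd))
    have h2 := h1.trans (pPrimeCore_map_le N)
    rw [hC.pPrimeCore_eq_bot, le_bot_iff] at h2
    exact hL h2
  obtain ⟨l, hlL, hl⟩ : ∃ l ∈ L, orderOf l = p := LESylow.exists_orderOf_eq hLp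
  -- its conjugates and the group they generate
  let e : ℕ → G := fun i => x ^ i * l * (x ^ i)⁻¹
  have heC : ∀ i, e i ∈ C i := fun i => ⟨l, hlL, rfl⟩
  have hesucc : ∀ i, x * e i * x⁻¹ = e (i + 1) := fun i => by
    show x * (x ^ i * l * (x ^ i)⁻¹) * x⁻¹ = x ^ (i + 1) * l * (x ^ (i + 1))⁻¹
    rw [pow_succ']; group
  have hep : e p = e 0 := by
    show x ^ p * l * (x ^ p)⁻¹ = x ^ 0 * l * (x ^ 0)⁻¹
    rw [hxp, pow_zero]
  have hecomm : ∀ i j, Commute (e i) (e j) := by
    intro i j
    wlog hij : i ≤ j generalizing i j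
    · exact (this j i (le_of_not_ge hij)).symm
    obtain ⟨k, rfl⟩ := Nat.exists_eq_add_of_le hij
    have hk : Commute l (e k) := by
      have hm := heC k
      rw [hCmod] at hm
      rcases Nat.eq_zero_or_pos (k % p) with h | h
      · have : e k = l := by
          show x ^ k * l * (x ^ k)⁻¹ = l
          rw [← pow_mod_orderOf, hC.ord, h]; simp
        rw [this]
      · exact hdisj _ h (Nat.mod_lt _ hpp.pos) l hlL _ hm
    show x ^ i * l * (x ^ i)⁻¹ * (x ^ (i + k) * l * (x ^ (i + k))⁻¹) = x ^ (i + k) * l * (x ^ (i + k))⁻¹ * (x ^ i * l * (x ^ i)⁻¹)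
    have h2 : x ^ (i + k) * l * (x ^ (i + k))⁻¹ = x ^ i * e k * (x ^ i)⁻¹ := by
      show _ = x ^ i * (x ^ k * l * (x ^ k)⁻¹) * (x ^ i)⁻¹
      rw [pow_add]; group
    rw [h2, conj_mul, hk.eq, ← conj_mul]
  let A := Subgroup.closure (Set.range e)
  haveI hAc : IsMulCommutative A := Subgroup.isMulCommutative_closure (by
    rintro _ ⟨i, rfl⟩ _ ⟨j, rfl⟩; exact hecomm i j)
  letI : CommGroup A := { (inferInstance : Group A) with mul_comm := fun a b => hAc.is_comm.comm a b }
  let E : ℕ → A := fun i => ⟨e i, Subgroup.subset_closure ⟨i, rfl⟩⟩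
  let φ : A →* G := (MulAut.conj x).toMonoidHom.comp A.subtype
  have hφ : ∀ i, φ (E i) = (E (i + 1) : G) := hesucc
  set g : A := ∏ i ∈ Finset.range p, E i ^ i with hg
  set d : A := ∏ i ∈ Finset.range p, E i with hd
  have hshift : ∀ f : ℕ → A, f p = f 0 → ∏ i ∈ Finset.range p, f (i + 1) = ∏ i ∈ Finset.range p, f i := by
    intro f hf
    apply mul_right_cancel (b := f 0)
    rw [← Finset.prod_range_succ', Finset.prod_range_succ, hf]
  have hEp : E p = E 0 := Subtype.ext hep
  have hφprod : ∀ (f f' : ℕ → A) (t : Finset ℕ), (∀ i ∈ t, φ (f i) = (f' i : G)) →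
      φ (∏ i ∈ t, f i) = ((∏ i ∈ t, f' i : A) : G) := by
    intro f f' t
    induction t using Finset.induction with
    | empty => intro; simp
    | insert b t hb ih =>
      intro h
      rw [Finset.prod_insert hb, Finset.prod_insert hb, map_mul, Subgroup.coe_mul,
        h b (Finset.mem_insert_self _ _), ih fun i hi => h i (Finset.mem_insert_of_mem hi)]
  have hφg : x * (g : G) * x⁻¹ = ((g * d⁻¹ : A) : G) := by
    have h1 : φ g = ((∏ i ∈ Finset.range p, E (i + 1) ^ i : A) : G) :=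
      hφprod _ _ _ fun i _ => by rw [map_pow, hφ, Subgroup.coe_pow]
    refine h1.trans (congrArg Subtype.val ?_)
    rw [eq_mul_inv_iff_mul_eq, hd, ← hshift E hEp, ← Finset.prod_mul_distrib, hg,
      ← hshift (fun i => E i ^ i) ?_]
    · exact Finset.prod_congr rfl fun i _ => (pow_succ _ _).symm
    · show E p ^ p = E 0 ^ 0
      rw [pow_zero]
      apply Subtype.ext
      show (e p) ^ p = 1
      rw [hep]
      show (x ^ 0 * l * (x ^ 0)⁻¹) ^ p = 1
      rw [conj_pow, ← hl, pow_orderOf_eq_one]; group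
  have hφd : x * (d : G) * x⁻¹ = (d : G) := by
    have h1 : φ d = ((∏ i ∈ Finset.range p, E (i + 1) : A) : G) := hφprod _ _ _ fun i _ => hφ i
    exact h1.trans (by rw [hd, hshift E hEp])
  have hgx : (g : G) * x * (g : G)⁻¹ = (d : G) * x := by
    have e2 : x * (g : G)⁻¹ * x⁻¹ = (d : G) * (g : G)⁻¹ := by
      rw [← _root_.conj_inv, hφg]
      push_cast
      group
    have e3 : (g : G) * (d : G) = (d : G) * (g : G) := by
      rw [← Subgroup.coe_mul, ← Subgroup.coe_mul, mul_comm]
    calc (g : G) * x * (g : G)⁻¹ = (g : G) * (x * (g : G)⁻¹ * x⁻¹) * x := by group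
      _ = (d : G) * x := by rw [e2, ← mul_assoc, e3]; group
  have hdx : (d : G) * x = x := by
    rw [← hgx]
    refine hC.iso _ ?_
    rw [hgx]
    show x * ((d : G) * x) = (d : G) * x * x
    rw [← mul_assoc, mul_inv_eq_iff_eq_mul.1 hφd]
  have hd1 : d = 1 := Subtype.ext (by
    rw [Subgroup.coe_one]; exact mul_eq_right.1 hdx)
  -- then `l` is central in `L`
  have hlC : ∀ a ∈ L, a * l = l * a := by
    intro a ha
    obtain ⟨q, hq⟩ := Nat.exists_eq_succ_of_ne_zero hpp.ne_zero
    rw [hd, hq, Finset.prod_range_succ', ← eq_inv_iff_mul_eq_one] at hd1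
    have hcomm : ∀ i ∈ Finset.range q, Commute a ((E (i + 1) : G)) := fun i hi =>
      hdisj (i + 1) i.succ_pos (by rw [Finset.mem_range] at hi; omega) a ha _ (heC (i + 1))
    have hprod : Commute a ((∏ i ∈ Finset.range q, E (i + 1) : A) : G) := by
      have : ∀ t : Finset ℕ, (∀ i ∈ t, Commute a ((E (i + 1) : G))) →
          Commute a ((∏ i ∈ t, E (i + 1) : A) : G) := by
        intro t
        induction t using Finset.induction with
        | empty => intro; simp
        | insert b t hb ih =>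
          intro h
          rw [Finset.prod_insert hb, Subgroup.coe_mul]
          exact (h b (Finset.mem_insert_self _ _)).mul_right
            (ih fun i hi => h i (Finset.mem_insert_of_mem hi))
      exact this _ hcomm
    have hE0 : (E 0 : G) = l := by show x ^ 0 * l * (x ^ 0)⁻¹ = l; simp
    rw [hd1, Subgroup.coe_inv, hE0] at hprod
    exact Commute.inv_right_iff.1 hprod
  -- so the centre of L is a nontrivial N-invariant subgroup
  have hZ : L ⊓ Subgroup.centralizer (L : Set G) = L := by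
    refine (hLmin _ inf_le_left fun n hn => ?_).resolve_left fun h => ?_
    · rw [← LEBasic.map_conj_eq_iff_mem_normalizer, Subgroup.map_inf _ _ _ (MulAut.conj n).injective,
        LEBasic.map_conj_eq_iff_mem_normalizer.2 (hLn hn), LEBasic.map_conj_eq_iff_mem_normalizer.2]
      rw [Subgroup.mem_normalizer_iff]
      intro y
      constructor
      · intro hy k hk
        have h := hy (n⁻¹ * k * n) ((Subgroup.mem_normalizer_iff''.1 (hLn hn) k).1 hk)
        calc k * (n * y * n⁻¹) = n * ((n⁻¹ * k * n) * y) * n⁻¹ := by group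
          _ = n * (y * (n⁻¹ * k * n)) * n⁻¹ := by rw [h]
          _ = n * y * n⁻¹ * k := by group
      · intro hy k hk
        have h := hy (n * k * n⁻¹) ((Subgroup.mem_normalizer_iff.1 (hLn hn) k).1 hk)
        calc k * y = n⁻¹ * ((n * k * n⁻¹) * (n * y * n⁻¹)) * n := by group
          _ = n⁻¹ * ((n * y * n⁻¹) * (n * k * n⁻¹)) * n := by rw [h]
          _ = y * k := by group
    · have hl2 : l ∈ L ⊓ Subgroup.centralizer (L : Set G) := Subgroup.mem_inf.2 ⟨hlL, hlC⟩
      rw [h, Subgroup.mem_bot] at hl2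
      rw [hl2, orderOf_one] at hl
      exact hpp.ne_one hl.symm
  obtain ⟨a, ha, b, hb, hab⟩ := hLab
  exact hab ((inf_eq_left.1 hZ) hb a ha)

theorem IsMinimalCounterexample.result :
    IsSimpleGroup ↥(commutator G) ∧ ¬ IsMulCommutative ↥(commutator G) ∧
      commutator G ⊔ Subgroup.zpowers x = ⊤ := by
  classical
  have hGtriv : (⊤ : Subgroup G) ≠ ⊥ := fun h => hC.not_central fun g => by
    rw [(Subgroup.eq_bot_iff_forall ⊤).1 h g (Subgroup.mem_top g)]; simp
  obtain ⟨N, hNs, hNmin⟩ := (Set.toFinite {N : Subgroup G | N.Normal ∧ N ≠ ⊥}).exists_minimal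
    ⟨⊤, inferInstance, hGtriv⟩
  obtain ⟨hNn, hN⟩ := hNs
  have hmin : ∀ M : Subgroup G, M.Normal → M ≤ N → M = ⊥ ∨ M = N := fun M hM hle =>
    or_iff_not_imp_left.2 fun h => le_antisymm hle (hNmin ⟨hM, h⟩ hle)
  haveI := hNn
  have htop := hC.sup_zpowers_eq_top hN hmin
  have hnab := hC.not_comm_of_minimal hN hmin
  have hcomm : commutator G = N := by
    refine ((hmin _ inferInstance ?_).resolve_left fun h => hC.not_commutative
      ((commutator_eq_bot_iff G).1 h |> fun hh => hh))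
    have hs : Function.Surjective ((QuotientGroup.mk' N).comp (Subgroup.zpowers x).subtype) := by
      intro y
      obtain ⟨g, rfl⟩ := QuotientGroup.mk'_surjective N y
      have hg : g ∈ ((N ⊔ Subgroup.zpowers x : Subgroup G) : Set G) := by rw [htop]; trivial
      rw [Subgroup.normal_mul] at hg
      obtain ⟨n, hn, w, hw, rfl⟩ := hg
      refine ⟨⟨w, hw⟩, ?_⟩
      rw [MonoidHom.comp_apply, map_mul, show QuotientGroup.mk' N n = 1 from (QuotientGroup.eq_one_iff n).2 hn,
        one_mul]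
      rfl
    rw [commutator_def, Subgroup.commutator_le]
    intro a _ b _
    refine (QuotientGroup.eq_one_iff _).1 ?_
    show QuotientGroup.mk' N ⁅a, b⁆ = 1
    obtain ⟨u, hu⟩ := hs (QuotientGroup.mk' N a)
    obtain ⟨v, hv⟩ := hs (QuotientGroup.mk' N b)
    rw [map_commutatorElement, ← hu, ← hv, ← map_commutatorElement, commutatorElement_eq_one_iff_mul_comm.2
      ((Subgroup.zpowers_isMulCommutative x).is_comm.comm u v), map_one]
  rw [hcomm]
  refine ⟨?_, hnab, htop⟩
  haveI : Nontrivial ↥N := (Subgroup.nontrivial_iff_ne_bot N).2 hN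
  refine ⟨fun M hM => or_iff_not_imp_left.2 fun hM1 => ?_⟩
  obtain ⟨L₀, hL₀, hLm⟩ := (Set.toFinite {L : Subgroup ↥N | L.Normal ∧ L ≠ ⊥ ∧ L ≤ M}).exists_minimal
    ⟨M, hM, hM1, le_rfl⟩
  obtain ⟨hL₀n, hL₀1, hL₀M⟩ := hL₀
  have hLN := hC.simple_of_minimal hN hmin (L := L₀.map N.subtype) (Subgroup.map_subtype_le _)
    (by rwa [ne_eq, Subgroup.map_eq_bot_iff_of_injective _ N.subtype_injective])
    (AxB.le_normalizer_map_subtype hL₀n) (fun K hK hKn => or_iff_not_imp_left.2 fun hK1 => by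
      have hKN : K ≤ N := hK.trans (Subgroup.map_subtype_le _)
      have hsub : K.subgroupOf N ≤ L₀ := fun k hk => by
        obtain ⟨k', hk', he⟩ := hK hk
        rwa [← N.subtype_injective he]
      have h1 := hLm ⟨Subgroup.normal_subgroupOf_of_le_normalizer hKn, fun h => hK1 (by
        rw [← Subgroup.map_subgroupOf_eq_of_le hKN, h, Subgroup.map_bot]), hsub.trans hL₀M⟩ hsub
      rw [le_antisymm h1 hsub, Subgroup.map_subgroupOf_eq_of_le hKN])
  rw [eq_top_iff]
  intro y _
  obtain ⟨y', hy', he⟩ := hLN.ge y.2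
  exact hL₀M (N.subtype_injective he ▸ hy')

end Cfsg.Agent.IsolatedP
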