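/-
Invariant Sylow subgroups in a minimal counterexample to the Z*_p statement.
-/
import Cfsg.Agent.Lib.Isolated.Minimal
import Cfsg.Agent.Lib.Solvable.Coprime

set_option autoImplicit false
set_option linter.unusedSectionVars false

namespace Cfsg.Agent.IsolatedP

variable {G : Type*} [Group G] [Finite G] {p : ℕ} [Fact p.Prime] {x : G}

theorem isolated_subtype {H : Subgroup G} (hxH : x ∈ H) (hiso : Cfsg.IsIsolated x) :
    Cfsg.IsIsolated (⟨x, hxH⟩ : ↥H) := fun g hg =>
  Subtype.ext (hiso g (congrArg Subtype.val hg :))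

theorem centralizer_transitive (hx : ∃ k : ℕ, orderOf x = p ^ k) (hiso : Cfsg.IsIsolated x) {q : ℕ}
    [Fact q.Prime] (S₁ S₂ : Sylow q G) (h₁ : x ∈ Subgroup.normalizer ((S₁ : Subgroup G) : Set G))
    (h₂ : x ∈ Subgroup.normalizer ((S₂ : Subgroup G) : Set G)) :
    ∃ c ∈ Subgroup.centralizer ({x} : Set G),
      (S₁ : Subgroup G).map (MulAut.conj c).toMonoidHom = (S₂ : Subgroup G) := by
  obtain ⟨g, hg⟩ := LESylow.exists_conj_eq S₁ S₂
  have hgx : g * x * g⁻¹ ∈ Subgroup.normalizer ((S₂ : Subgroup G) : Set G) := by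
    rw [← LEBasic.map_conj_eq_iff_mem_normalizer, ← hg, LEBasic.map_conj_map_conj,
      show g * x * g⁻¹ * g = g * x by group, ← LEBasic.map_conj_map_conj _ g x,
      LEBasic.map_conj_eq_iff_mem_normalizer.2 h₁]
  obtain ⟨n, hn, R, hR, hxR, hnR⟩ :=
    exists_conj_common hx (y := g * x * g⁻¹) (by simpa [orderOf_conj'] using hx) h₂ hgx
  have e : n * (g * x * g⁻¹) * n⁻¹ = (n * g) * x * (n * g)⁻¹ := by group
  rw [e] at hnR
  refine ⟨n * g, Subgroup.mem_centralizer_singleton_iff.2
    (mul_inv_eq_iff_eq_mul.1 (eq_of_conj_mem hiso hR hxR hnR)), ?_⟩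
  rw [← LEBasic.map_conj_map_conj, hg, LEBasic.map_conj_eq_iff_mem_normalizer.2 hn]

/-- In a group where `x` is isolated and central modulo `O_{p'}`, a maximal `x`-invariant `q`-subgroup which is
normal is a Sylow subgroup. -/
theorem sylow_of_maximal_normal {q : ℕ} [Fact q.Prime] (hpq : q ≠ p) (hx : ∃ k : ℕ, orderOf x = p ^ k)
    (hiso : Cfsg.IsIsolated x) (hz : Cfsg.InZStar p x) (Q : Subgroup G) [Q.Normal] (hQ : IsPGroup q ↥Q)
    (hmax : ∀ R : Subgroup G, IsPGroup q ↥R → x ∈ Subgroup.normalizer (R : Set G) → Q ≤ R → R = Q) :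
    ¬ q ∣ Q.index := by
  set K := Cfsg.pPrimeCore p G with hKdef
  haveI hKn : K.Normal := Cfsg.pPrimeCore_normal p G
  set A := Subgroup.zpowers x with hA
  obtain ⟨k, hk⟩ := hx
  have hAK : A ≤ Subgroup.normalizer (K : Set G) := by
    rw [Subgroup.normalizer_eq_top_iff.2 hKn]; exact le_top
  have hcop : (Nat.card A).Coprime (Nat.card K) := by
    rw [hA, Nat.card_zpowers, hk]
    exact Nat.Coprime.pow_left k (PBasic.pPrimeCore_coprime p G).symm
  have hsolv : Group.IsSolvable A ∨ Group.IsSolvable K :=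
    Or.inl (Group.isSolvable_of_comm fun a b => (Subgroup.zpowers_isMulCommutative x).is_comm.comm a b)
  have hnormA : ∀ {y : G}, y ∈ Subgroup.centralizer ({x} : Set G) →
      y ∈ Subgroup.centralizer (A : Set G) := by
    intro y hy a ha
    obtain ⟨i, rfl⟩ := ha
    exact (Commute.zpow_left (Subgroup.mem_centralizer_singleton_iff.1 hy).symm i)
  -- Frattini for `K⟨x⟩`
  have hM : (K ⊔ A).Normal := by
    refine ⟨fun m hm g => ?_⟩
    have hx' : g * x * g⁻¹ ∈ K ⊔ A := by
      rw [show g * x * g⁻¹ = (g * x * g⁻¹ * x⁻¹) * x by group]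
      exact Subgroup.mul_mem_sup (hz g) (Subgroup.mem_zpowers x)
    have : (K ⊔ A).map (MulAut.conj g).toMonoidHom ≤ K ⊔ A := by
      rw [Subgroup.map_sup, hA, MonoidHom.map_zpowers]
      refine sup_le ?_ (Subgroup.zpowers_le.2 hx')
      rintro _ ⟨y, hy, rfl⟩
      exact Subgroup.mem_sup_left (hKn.conj_mem y hy g)
    exact this ⟨m, hm, rfl⟩
  have hfrat := sup_centralizer_eq ⟨k, hk⟩ hiso (H := ⊤) (N := K ⊔ A) le_top
    (by rw [Subgroup.normalizer_eq_top_iff.2 hM]) (Subgroup.mem_sup_right (Subgroup.mem_zpowers x))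
  have hKC : K ⊔ Subgroup.centralizer ({x} : Set G) = ⊤ := by
    rw [eq_top_iff, ← hfrat, top_inf_eq]
    exact sup_le (sup_le le_sup_left ((Subgroup.zpowers_le.2
      (Subgroup.mem_centralizer_singleton_iff.2 rfl)).trans le_sup_right)) le_sup_right
  -- an invariant Sylow subgroup of K
  obtain ⟨R, hR⟩ := CoprimeAct.exists_invariant_sylow hAK hcop hsolv q
  set R0 := (R : Subgroup ↥K).map K.subtype with hR0
  set L := Subgroup.centralizer ({x} : Set G) ⊓ Subgroup.normalizer (R0 : Set G) with hL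
  have hKL : K ⊔ L = ⊤ := by
    rw [eq_top_iff, ← hKC]
    refine sup_le le_sup_left fun c hc => ?_
    have hle : R0.map (MulAut.conj c).toMonoidHom ≤ K := by
      rintro _ ⟨y, hy, rfl⟩
      exact hKn.conj_mem y (Subgroup.map_subtype_le _ hy) c
    have hcard : Nat.card ↥((R0.map (MulAut.conj c).toMonoidHom).subgroupOf K) = Nat.card ↥(R : Subgroup ↥K) := by
      rw [Nat.card_congr (Subgroup.subgroupOfEquivOfLe hle).toEquiv, LEBasic.card_map_conj, hR0,
        Subgroup.card_map_of_injective K.subtype_injective]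
    let R' : Sylow q ↥K := Sylow.ofCard ((R0.map (MulAut.conj c).toMonoidHom).subgroupOf K)
      (hcard.trans R.card_eq_multiplicity)
    have hR'c : (R' : Subgroup ↥K).map K.subtype = R0.map (MulAut.conj c).toMonoidHom := by
      show ((R0.map (MulAut.conj c).toMonoidHom).subgroupOf K).map K.subtype = _
      exact Subgroup.map_subgroupOf_eq_of_le hle
    have hR'inv : A ≤ Subgroup.normalizer (((R' : Subgroup ↥K).map K.subtype : Subgroup G) : Set G) := by
      intro a ha
      rw [hR'c, ← LEBasic.map_conj_eq_iff_mem_normalizer, LEBasic.map_conj_map_conj,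
        hnormA hc a ha, ← LEBasic.map_conj_map_conj, LEBasic.map_conj_eq_iff_mem_normalizer.2 (hR ha)]
    obtain ⟨d, hd, hdR⟩ := CoprimeAct.invariant_sylow_conj hAK hcop hsolv R R' hR hR'inv
    have hdR' : R0.map (MulAut.conj (d : G)).toMonoidHom = R0.map (MulAut.conj c).toMonoidHom := by
      rw [← hR'c, ← hdR, hR0]
      ext y
      constructor
      · rintro ⟨_, ⟨z, hz, rfl⟩, rfl⟩
        exact ⟨_, ⟨z, hz, rfl⟩, rfl⟩
      · rintro ⟨_, ⟨z, hz, rfl⟩, rfl⟩
        exact ⟨_, ⟨z, hz, rfl⟩, rfl⟩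
    have hL' : (d : G)⁻¹ * c ∈ L := by
      refine Subgroup.mem_inf.2 ⟨mul_mem (inv_mem ?_) hc, ?_⟩
      · exact Subgroup.mem_centralizer_singleton_iff.2 (hd x (Subgroup.mem_zpowers x)).symm
      · rw [← LEBasic.map_conj_eq_iff_mem_normalizer, ← LEBasic.map_conj_map_conj, ← hdR',
          LEBasic.map_conj_map_conj, inv_mul_cancel, LEBasic.map_conj_one]
    rw [show c = (d : G) * ((d : G)⁻¹ * c) by group]
    exact Subgroup.mul_mem_sup d.2 hL'
  obtain ⟨T⟩ : Nonempty (Sylow q ↥L) := inferInstance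
  set T0 := (T : Subgroup ↥L).map L.subtype with hT0
  have hT0L : T0 ≤ L := Subgroup.map_subtype_le _
  have hRT : IsPGroup q ↥(R0 ⊔ T0) :=
    IsPGroup.to_sup_of_normal_left' (R.isPGroup'.map _) (T.isPGroup'.map _) (hT0L.trans inf_le_right)
  have hQRT : IsPGroup q ↥(Q ⊔ (R0 ⊔ T0)) := IsPGroup.to_sup_of_normal_left hQ hRT
  have hinv : x ∈ Subgroup.normalizer ((Q ⊔ (R0 ⊔ T0) : Subgroup G) : Set G) := by
    have h1 : x ∈ Subgroup.normalizer (T0 : Set G) := by
      rw [Subgroup.mem_normalizer_iff]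
      intro y
      have key : ∀ y : G, y * x = x * y → x * y * x⁻¹ = y := fun y h => by rw [← h, mul_inv_cancel_right]
      constructor
      · intro hy
        rw [key y (Subgroup.mem_centralizer_singleton_iff.1 (Subgroup.mem_inf.1 (hT0L hy)).1)]; exact hy
      · intro hy
        have h := key _ (Subgroup.mem_centralizer_singleton_iff.1 (Subgroup.mem_inf.1 (hT0L hy)).1)
        have h2 : x * y * x⁻¹ = y := mul_left_cancel (mul_right_cancel h)
        rwa [h2] at hy
    rw [← LEBasic.map_conj_eq_iff_mem_normalizer, Subgroup.map_sup, Subgroup.map_sup,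
      LEBasic.map_conj_eq_iff_mem_normalizer.2 (by rw [Subgroup.normalizer_eq_top_iff.2 inferInstance]; trivial : x ∈ Subgroup.normalizer (Q : Set G)),
      LEBasic.map_conj_eq_iff_mem_normalizer.2 (hR (Subgroup.mem_zpowers x)),
      LEBasic.map_conj_eq_iff_mem_normalizer.2 h1]
  have hle : R0 ⊔ T0 ≤ Q := (hmax _ hQRT hinv le_sup_left).le.trans' le_sup_right
  -- indices
  haveI : (K ⊔ Q).Normal := inferInstance
  intro hd
  have hKQ : K ⊔ Q ⊔ L = ⊤ := eq_top_iff.2 (hKL ▸ sup_le_sup_right le_sup_left L)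
  have hmul := Subgroup.relIndex_mul_index (le_sup_right : Q ≤ K ⊔ Q)
  rcases (Fact.out : q.Prime).dvd_mul.1 (hmul ▸ hd) with h | h
  · rw [← PBasic.relIndex_eq_relIndex_sup] at h
    refine R.not_dvd_index (h.trans ?_)
    have h1 : R0.subgroupOf K = (R : Subgroup ↥K) := by
      rw [hR0, Subgroup.subgroupOf, Subgroup.comap_map_eq_self_of_injective K.subtype_injective]
    rw [Subgroup.relIndex, ← h1]
    exact Subgroup.index_dvd_of_le (Subgroup.comap_mono (le_sup_left.trans hle))
  · have h1 : (K ⊔ Q).index = (K ⊔ Q).relIndex L := by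
      rw [← Subgroup.relIndex_top_right, ← hKQ, sup_comm (K ⊔ Q) L, Subgroup.relIndex_sup_right]
    rw [h1] at h
    refine T.not_dvd_index (h.trans ?_)
    have h2 : T0.subgroupOf L = (T : Subgroup ↥L) := by
      rw [hT0, Subgroup.subgroupOf, Subgroup.comap_map_eq_self_of_injective L.subtype_injective]
    rw [Subgroup.relIndex, ← h2]
    exact Subgroup.index_dvd_of_le (Subgroup.comap_mono ((le_sup_right.trans hle).trans le_sup_right))

theorem IsMinimalCounterexample.invariant_sylow (hC : IsMinimalCounterexample p x) {q : ℕ}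
    [Fact q.Prime] (Q : Subgroup G) (hQ : IsPGroup q ↥Q) (hxQ : x ∈ Subgroup.normalizer (Q : Set G))
    (hmax : ∀ R : Subgroup G, IsPGroup q ↥R → x ∈ Subgroup.normalizer (R : Set G) → Q ≤ R → R = Q) :
    Q = ⊥ ∨ ∃ S : Sylow q G, (S : Subgroup G) = Q := by
  by_cases hQ1 : Q = ⊥
  · exact Or.inl hQ1
  right
  by_cases hqp : q = p
  · subst hqp
    have hxp := isPGroup_zpowers hC.exists_pow
    have hQx : x ∈ Q := by
      have h := hmax _ (IsPGroup.to_sup_of_normal_left' hQ hxp (Subgroup.zpowers_le.2 hxQ))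
        (Subgroup.le_normalizer (Subgroup.mem_sup_right (Subgroup.mem_zpowers x))) le_sup_left
      rw [← h]; exact Subgroup.mem_sup_right (Subgroup.mem_zpowers x)
    obtain ⟨S, hS⟩ := hQ.exists_le_sylow
    exact ⟨S, hmax _ S.isPGroup' (Subgroup.le_normalizer (hS hQx)) hS⟩
  set H := Subgroup.normalizer (Q : Set G) with hH
  have hHne : H ≠ ⊤ := by
    intro h
    haveI := Subgroup.normalizer_eq_top_iff.1 h
    obtain ⟨N, hN, hNmin⟩ := (Set.toFinite {N : Subgroup G | N.Normal ∧ N ≠ ⊥ ∧ N ≤ Q}).exists_minimal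
      ⟨Q, inferInstance, hQ1, le_rfl⟩
    obtain ⟨hNn, hN1, hNQ⟩ := hN
    haveI := hNn
    have hmin : ∀ M : Subgroup G, M.Normal → M ≤ N → M = ⊥ ∨ M = N := fun M hM hle =>
      or_iff_not_imp_left.2 fun h => le_antisymm hle (hNmin ⟨hM, h, hle.trans hNQ⟩ hle)
    refine hC.not_comm_of_minimal hN1 hmin ?_
    have hNp := hQ.to_le hNQ
    haveI : Nontrivial ↥N := (Subgroup.nontrivial_iff_ne_bot N).2 hN1
    have hne : Subgroup.center ↥N ≠ ⊥ := by
      intro hb
      have := IsPGroup.center_nontrivial hNp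
      rw [hb] at this
      exact not_nontrivial _ this
    have heq := (hmin ((Subgroup.center ↥N).map N.subtype) inferInstance (Subgroup.map_subtype_le _)).resolve_left
      (by rwa [Subgroup.map_eq_bot_iff_of_injective _ N.subtype_injective])
    refine ⟨⟨fun a b => ?_⟩⟩
    have hb : (b : G) ∈ (Subgroup.center ↥N).map N.subtype := heq.symm ▸ b.2
    obtain ⟨b', hb', he⟩ := hb
    rw [← N.subtype_injective he]
    exact Subgroup.mem_center_iff.1 hb' a
  have hz := hC.sub H hxQ hHne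
  haveI : (Q.subgroupOf H).Normal := Subgroup.normal_subgroupOf_of_le_normalizer le_rfl
  have hidx : ¬ q ∣ (Q.subgroupOf H).index :=
    sylow_of_maximal_normal hqp (by simpa [Subgroup.orderOf_mk] using hC.exists_pow)
      (isolated_subtype hxQ hC.iso) hz _ (hQ.comap_of_injective H.subtype H.subtype_injective)
      fun R hR hxR hle => by
        have h1 := hmax (R.map H.subtype) (hR.map _) ?_ ?_
        · rw [← h1, Subgroup.subgroupOf, Subgroup.comap_map_eq_self_of_injective H.subtype_injective]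
        · rw [← LEBasic.map_conj_eq_iff_mem_normalizer, Subgroup.map_map]
          conv_rhs => rw [← LEBasic.map_conj_eq_iff_mem_normalizer.2 hxR, Subgroup.map_map]
          congr 1
        · intro y hy
          exact ⟨⟨y, Subgroup.le_normalizer hy⟩, hle hy, rfl⟩
  refine LESylow.exists_sylow_eq hQ fun R hR hQR hRH => ?_
  have hS := ((hQ.comap_of_injective H.subtype H.subtype_injective).toSylow hidx).is_maximal'
    (Q := R.subgroupOf H) (hR.comap_of_injective H.subtype H.subtype_injective) (Subgroup.comap_mono hQR)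
  intro y hy
  exact (show (⟨y, hRH hy⟩ : ↥H) ∈ Q.subgroupOf H from hS.le hy)

end Cfsg.Agent.IsolatedP
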