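/-
Supersolvability from strongly closed subgroups of one fixed order in the Sylow subgroups of a
normal subgroup.
-/
import Cfsg.Agent.Lib.Isolated.HSubgroup
import Cfsg.Agent.Lib.Solvable.Huppert

set_option autoImplicit false

namespace Cfsg.Agent.HSub

open Subgroup
open scoped Pointwise

universe u

variable {G : Type*} [Group G] [Finite G] {p : ℕ}

/-- `x` acts trivially on the normal cyclic sections of `Q`. -/
def Sections (Q : Subgroup G) (x : G) : Prop :=
  ∀ M F : Subgroup G, ∀ (hM : M.Normal), F.Normal → M ≤ F → F ≤ Q →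
    IsCyclic (F.map (QuotientGroup.mk' M)) → ∀ z ∈ F, z⁻¹ * (x * z * x⁻¹) ∈ M

omit [Finite G] in
theorem sections_iff {M : Subgroup G} [M.Normal] {x z : G} :
    z⁻¹ * (x * z * x⁻¹) ∈ M ↔ Commute (QuotientGroup.mk' M x) (QuotientGroup.mk' M z) := by
  rw [← QuotientGroup.eq_one_iff]
  change QuotientGroup.mk' M _ = 1 ↔ _
  simp only [map_mul, map_inv, inv_mul_eq_one, eq_mul_inv_iff_mul_eq]
  exact eq_comm

omit [Finite G] in
theorem sections_zpow {Q : Subgroup G} {x : G} (h : Sections Q x) {M F : Subgroup G}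
    (hM : M.Normal) (hF : F.Normal) (hMF : M ≤ F) (hFQ : F ≤ Q)
    (hc : IsCyclic (F.map (QuotientGroup.mk' M))) {a : G} (ha : a ∈ zpowers x) :
    ∀ z ∈ F, z⁻¹ * (a * z * a⁻¹) ∈ M := by
  intro z hz
  obtain ⟨i, rfl⟩ := mem_zpowers_iff.1 ha
  have h1 := sections_iff.1 (h M F hM hF hMF hFQ hc z hz)
  rw [sections_iff, map_zpow]
  exact h1.zpow_left i

theorem sections_of_mem_commutator {Q : Subgroup G} {x : G} (hx : x ∈ commutator G) :
    Sections Q x := by
  intro M F hM hF _ _ hc z hz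
  have := hF.map (QuotientGroup.mk' M) (QuotientGroup.mk'_surjective M)
  have hx' : QuotientGroup.mk' M x ∈ commutator (G ⧸ M) := by
    rw [commutator_def, ← map_top_of_surjective _ (QuotientGroup.mk'_surjective M),
      ← map_commutator, ← commutator_def]
    exact mem_map_of_mem _ hx
  rw [sections_iff]
  exact (mem_centralizer_iff.1 (SupSolv.commutator_le_centralizer_of_cyclic hx') _
    (mem_map_of_mem _ hz)).symm

theorem sections_of_pow_pred [Fact p.Prime] {Q : Subgroup G} (hQ : IsPGroup p Q) {g : G}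
    (hg : (orderOf g).Coprime p) : Sections Q (g ^ (p - 1)) := by
  intro M F hM hF _ hFQ hc z hz
  have hp : p.Prime := Fact.out
  set f := QuotientGroup.mk' M
  have hA := hF.map f (QuotientGroup.mk'_surjective M)
  have hn : f g ∈ normalizer (F.map f : Set (G ⧸ M)) := by
    rw [normalizer_eq_top_iff.2 hA]; exact mem_top _
  rw [sections_iff]
  change Commute (f (g ^ (p - 1))) (f z)
  rw [map_pow]
  set ψ := normalizerMonoidHom (F.map f)
  have h1 : orderOf (ψ ⟨f g, hn⟩) ∣ orderOf g := by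
    refine (orderOf_map_dvd ψ _).trans ?_
    rw [orderOf_mk]
    exact orderOf_map_dvd f g
  have h2 : orderOf (ψ ⟨f g, hn⟩) ∣ (Nat.card (F.map f)).totient :=
    IsCyclic.card_mulAut (F.map f) ▸ orderOf_dvd_natCard _
  obtain ⟨j, hj⟩ := ((hQ.to_le hFQ).map f).exists_card_eq
  rw [hj] at h2
  have h3 : orderOf (ψ ⟨f g, hn⟩) ∣ p - 1 := by
    rcases Nat.eq_zero_or_pos j with rfl | hj0
    · rw [pow_zero, Nat.totient_one, Nat.dvd_one] at h2
      rw [h2]
      exact one_dvd _
    · rw [Nat.totient_prime_pow hp hj0] at h2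
      exact ((hg.coprime_dvd_left h1).pow_right _).dvd_of_dvd_mul_left h2
  have h4 : (⟨f g, hn⟩ : normalizer (F.map f : Set (G ⧸ M))) ^ (p - 1) ∈ ψ.ker := by
    rw [MonoidHom.mem_ker, map_pow, ← orderOf_dvd_iff_pow_eq_one]
    exact h3
  rw [normalizerMonoidHom_ker, mem_subgroupOf, SubmonoidClass.coe_pow] at h4
  exact (mem_centralizer_iff.1 h4 _ (mem_map_of_mem f hz)).symm

variable [Fact p.Prime]

/-- A `p'`-element fixing all normal cyclic sections of a `p`-group, all whose subgroups of one intermediate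
order are normal, centralises it. -/
theorem centralizes_of_sections {Q : Subgroup G} (hQ : IsPGroup p Q) {x : G}
    (hx : x ∈ normalizer (Q : Set G)) (hxp : (orderOf x).Coprime p)
    (hsec : Sections Q x) {k : ℕ} (hk : 1 ≤ k) (hkQ : p ^ k < Nat.card Q)
    (hE : ∀ E : Subgroup G, E ≤ Q → (Nat.card E = p ^ k ∨ (p = 2 ∧ k = 1 ∧ Nat.card E = 4)) →
      E.Normal) :
    x ∈ centralizer (Q : Set G) := by
  have hp : p.Prime := Fact.out
  obtain ⟨m, hm⟩ := hQ.exists_card_eq
  have hkm : k + 1 ≤ m := by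
    rw [hm] at hkQ
    exact (Nat.pow_lt_pow_iff_right hp.one_lt).1 hkQ
  have hcyc : ∀ E : Subgroup G, E ≤ Q → IsCyclic E → E.Normal → x ∈ centralizer (E : Set G) := by
    intro E hEQ hcy hEn
    refine mem_centralizer_iff.2 fun z hz => ?_
    have h := hsec ⊥ E inferInstance hEn bot_le hEQ (by
      exact isCyclic_of_surjective ((QuotientGroup.mk' (⊥ : Subgroup G)).subgroupMap E)
        (MonoidHom.subgroupMap_surjective _ E)) z hz
    rw [mem_bot, inv_mul_eq_one, eq_mul_inv_iff_mul_eq] at h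
    exact h
  -- every element lying in a member of the family is fixed
  have hfam : ∀ E : Subgroup G, E ≤ Q → Nat.card E = p ^ k → ∀ y ∈ E, x * y = y * x := by
    intro E hEQ hEk y hy
    by_cases hcy : IsCyclic E
    · exact (mem_centralizer_iff.1 (hcyc E hEQ hcy (hE E hEQ (Or.inl hEk))) y hy).symm
    obtain ⟨F0, hF0, hEF0⟩ := Sylow.exists_subgroup_card_pow_succ (G := Q) (p := p) (n := k)
      (hm ▸ pow_dvd_pow p hkm) (H := E.subgroupOf Q)
      (by rw [Nat.card_congr (subgroupOfEquivOfLe hEQ).toEquiv, hEk])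
    set F := F0.map Q.subtype with hF
    have hFQ : F ≤ Q := map_subtype_le _
    have hFc : Nat.card F = p ^ (k + 1) := by rw [hF, card_map_of_injective Q.subtype_injective, hF0]
    have hEF : E ≤ F := fun e he => ⟨⟨e, hEQ he⟩, hEF0 (mem_subgroupOf.2 he), rfl⟩
    have hFp : IsPGroup p F := IsPGroup.of_card hFc
    have hmax : ∀ M : Subgroup F, IsCoatom M → Nat.card (M.map F.subtype) = p ^ k ∧ M.Normal := by
      intro M hM
      have hn := hFp.isNilpotent
      have hMn : M.Normal := (Group.normalizerCondition_of_isNilpotent (G := F)).normal_of_coatom M hM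
      have hidx := hFp.index M
      obtain ⟨j, hj⟩ := hidx
      have hj1 : j = 1 := by
        rcases Nat.lt_or_ge j 1 with h0 | h0
        · rw [show j = 0 by omega, pow_zero, index_eq_one] at hj; exact absurd hj hM.1
        · by_contra hne
          obtain ⟨j', rfl⟩ : ∃ j', j = j' + 2 := ⟨j - 2, by omega⟩
          obtain ⟨t, ht⟩ : ∃ t, Nat.card M = p ^ t := (hFp.to_subgroup M).exists_card_eq
          have h1 := M.card_mul_index
          rw [ht, hj, hFc, ← pow_add] at h1
          have h1' := Nat.pow_right_injective hp.two_le h1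
          obtain ⟨K, hK, hMK⟩ := Sylow.exists_subgroup_card_pow_succ (G := F) (p := p) (n := t)
            (hFc ▸ pow_dvd_pow p (by omega)) ht
          have hlt : M < K := lt_of_le_of_ne hMK fun e => by
            rw [← e, ht] at hK
            exact absurd (Nat.pow_right_injective hp.two_le hK) (by omega)
          have := hM.2 K hlt
          rw [this, card_top, hFc] at hK
          exact absurd (Nat.pow_right_injective hp.two_le hK) (by omega)
      have h1 := M.card_mul_index
      rw [hj, hj1, hFc, pow_one, pow_succ] at h1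
      exact ⟨by rw [card_map_of_injective F.subtype_injective]; exact Nat.eq_of_mul_eq_mul_right hp.pos h1, hMn⟩
    have hnmax : ∀ M : Subgroup F, IsCoatom M → (M.map F.subtype : Subgroup G).Normal :=
      fun M hM => hE _ ((map_subtype_le M).trans hFQ) (Or.inl (hmax M hM).1)
    have hEn : E.Normal := hE E hEQ (Or.inl hEk)
    have hFn : F.Normal := by
      obtain ⟨f, hfF, hfE⟩ := SetLike.exists_of_lt (lt_of_le_of_ne hEF fun e => by
        rw [e, hFc] at hEk; exact absurd (Nat.pow_right_injective hp.two_le hEk) (by omega))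
      have hne : zpowers (⟨f, hfF⟩ : F) ≠ ⊤ := fun htop => hcy (by
        have : IsCyclic F := ⟨⟨⟨f, hfF⟩, fun y => htop.ge (mem_top y)⟩⟩
        exact isCyclic_of_injective (inclusion hEF) (inclusion_injective hEF))
      obtain ⟨M, hM, hfM⟩ := (eq_top_or_exists_le_coatom _).resolve_left hne
      set M' := M.map F.subtype
      have hsup : E ⊔ M' = F := by
        refine eq_of_le_of_card_ge (sup_le hEF (map_subtype_le M)) ?_
        have hlt : Nat.card E < Nat.card (E ⊔ M' : Subgroup G) := by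
          refine lt_of_le_of_ne (card_le_of_le le_sup_left) fun h => hfE ?_
          exact (eq_of_le_of_card_ge le_sup_left h.ge).ge
            (mem_sup_right ⟨⟨f, hfF⟩, hfM (mem_zpowers _), rfl⟩)
        obtain ⟨j, hj⟩ := (hFp.to_le (sup_le hEF (map_subtype_le M))).exists_card_eq
        rw [hj, hEk] at hlt
        rw [hj, hFc]
        exact Nat.pow_le_pow_right hp.pos ((Nat.pow_lt_pow_iff_right hp.one_lt).1 hlt)
      have := hnmax M hM
      rw [← hsup]
      infer_instance
    have hxF : x ∈ normalizer (F : Set G) := by rw [normalizer_eq_top_iff.2 hFn]; exact mem_top x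
    have hcent : zpowers x ≤ centralizer (F : Set G) := by
      refine CoprimeAct.le_centralizer_of_frattini (zpowers_le.2 hxF) ?_ ?_
      · obtain ⟨j, hj⟩ := (hFp.to_subgroup (frattini F)).exists_card_eq
        rw [Nat.card_zpowers, hj]
        exact Nat.Coprime.pow_right _ hxp
      · intro a ha f hf
        have key : (⟨a * f * a⁻¹ * f⁻¹, F.mul_mem (CLarge.conj_mem (zpowers_le.2 hxF ha) hf) (F.inv_mem hf)⟩ : F)
            ∈ frattini F := by
          rw [frattini, Order.radical]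
          simp only [mem_iInf]
          intro M hM
          obtain ⟨hMc, hMn⟩ := hmax M hM
          have h1 : f⁻¹⁻¹ * (a * f⁻¹ * a⁻¹) ∈ M.map F.subtype := by
            refine sections_zpow hsec (hnmax M hM) hFn (map_subtype_le M) hFQ ?_ ha f⁻¹ (inv_mem hf)
            have : Fact p.Prime := ⟨hp⟩
            refine isCyclic_of_prime_card (p := p) ?_
            have hMn' := hnmax M hM
            rw [← relIndex_ker, QuotientGroup.ker_mk']
            have h4 := PBasic.card_mul_relIndex (map_subtype_le M)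
            rw [hMc, hFc, pow_succ] at h4
            exact Nat.eq_of_mul_eq_mul_left (pow_pos hp.pos k) h4
          have h2 : f * (a * f⁻¹ * a⁻¹) ∈ M.map F.subtype := by simpa using h1
          have h3 := inv_mem h2
          obtain ⟨w, hw, e⟩ := h3
          have : (w : F) = ⟨a * f * a⁻¹ * f⁻¹, F.mul_mem (CLarge.conj_mem (zpowers_le.2 hxF ha) hf) (F.inv_mem hf)⟩ :=
            Subtype.ext (e.trans (by group))
          exact this ▸ hw
        exact ⟨_, key, rfl⟩
    exact (mem_centralizer_iff.1 (zpowers_le.1 hcent) y (hEF hy)).symm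
  have hmem : ∀ y ∈ Q, (y ^ p = 1 ∨ p = 2 ∧ y ^ 4 = 1) → x * y = y * x := by
    intro y hy hyo
    obtain ⟨j, hj⟩ := (hQ.to_le (zpowers_le.2 hy)).exists_card_eq
    rcases le_or_gt j k with hjk | hjk
    · obtain ⟨E0, hE0, hyE0⟩ := Sylow.exists_subgroup_card_pow_prime_le (G := Q) p (n := j) (m := k)
        (hm ▸ pow_dvd_pow p (by omega)) ((zpowers y).subgroupOf Q)
        (by rw [Nat.card_congr (subgroupOfEquivOfLe (zpowers_le.2 hy)).toEquiv, hj]) hjk
      exact hfam (E0.map Q.subtype) (map_subtype_le _)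
        (by rw [card_map_of_injective Q.subtype_injective, hE0]) y
        ⟨⟨y, hy⟩, hyE0 (mem_subgroupOf.2 (mem_zpowers y)), rfl⟩
    · rw [Nat.card_zpowers] at hj
      have hd : orderOf y ∣ p ∨ p = 2 ∧ orderOf y ∣ 4 :=
        hyo.imp orderOf_dvd_of_pow_eq_one (And.imp_right orderOf_dvd_of_pow_eq_one)
      rcases hd with hd | ⟨h2, hd⟩
      · rw [hj] at hd
        have := Nat.le_of_dvd hp.pos hd
        have h3 : p ^ 2 ≤ p ^ j := Nat.pow_le_pow_right hp.pos (by omega)
        nlinarith [hp.two_le, sq p]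
      · subst h2
        rw [hj, show (4 : ℕ) = 2 ^ 2 by norm_num] at hd
        have := (Nat.pow_dvd_pow_iff_le_right one_lt_two).1 hd
        have hj2 : j = 2 := by omega
        have hk1 : k = 1 := by omega
        have hxz : (zpowers y).Normal := hE _ (zpowers_le.2 hy)
          (Or.inr ⟨rfl, hk1, by rw [Nat.card_zpowers, hj, hj2]; norm_num⟩)
        have hcz : IsCyclic (zpowers y) := inferInstance
        exact (mem_centralizer_iff.1 (hcyc _ (zpowers_le.2 hy) hcz hxz) y (mem_zpowers y)).symm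
  exact mem_centralizer_iff.2 fun a ha => (LEOmega.commute_of_small hxp _ Q le_rfl hQ hx hmem a ha).symm


/-- A normal `p`-subgroup with a subgroup of fixed order family strongly closed has it normal. -/
theorem normal_of_closed {Q F : Subgroup G} [Q.Normal] (hQ : IsPGroup p Q) (hFQ : F ≤ Q)
    (hF : ∀ g : G, F.map (MulAut.conj g).toMonoidHom ⊓ normalizer (F : Set G) ≤ F) : F.Normal := by
  have key : ∀ g : G, (∀ y ∈ F, g * y * g⁻¹ ∈ normalizer (F : Set G)) → ∀ y ∈ F, g * y * g⁻¹ ∈ F :=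
    fun g hg y hy => hF g ⟨⟨y, hy, rfl⟩, hg y hy⟩
  have hQN : Q ≤ normalizer (F : Set G) := by
    by_contra hne
    have := hQ.isNilpotent
    set M := (normalizer (F : Set G)).subgroupOf Q
    have hM : M < ⊤ := lt_top_iff_ne_top.2 fun h => hne (subgroupOf_eq_top.1 h)
    obtain ⟨x, hx, hxM⟩ := SetLike.exists_of_lt (Group.normalizerCondition_of_isNilpotent (G := Q) M hM)
    apply hxM
    refine mem_subgroupOf.2 (CLarge.le_normalizer_of_forall (S := zpowers (x : G)) ?_ (mem_zpowers (x : G)))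
    intro a ha y hy
    refine key a ?_ y hy
    intro y hy
    have hyM : (⟨y, hFQ hy⟩ : Q) ∈ M := mem_subgroupOf.2 (le_normalizer hy)
    obtain ⟨i, hi⟩ := mem_zpowers_iff.1 ha
    have := mem_subgroupOf.1 (CLarge.conj_mem (zpow_mem hx i) hyM)
    simpa [hi] using this
  exact ⟨fun y hy g => key g (fun y hy => hQN (‹Q.Normal›.conj_mem y (hFQ hy) g)) y hy⟩

omit [Fact p.Prime] in
/-- A `p`-power element of a subgroup lies in a normal Sylow subgroup of it. -/
theorem mem_of_normal_sylow {R K : Subgroup G} (hp : p.Prime) (hRK : R ≤ K)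
    (hK : K ≤ normalizer (R : Set G)) (hi : ¬ p ∣ R.relIndex K) {x : G} (hx : x ∈ K) {n : ℕ}
    (hn : x ^ p ^ n = 1) : x ∈ R := by
  have : (R.subgroupOf K).Normal := normal_subgroupOf_of_le_normalizer hK
  set f := QuotientGroup.mk' (R.subgroupOf K)
  have h1 : orderOf (f ⟨x, hx⟩) ∣ p ^ n := by
    apply orderOf_dvd_of_pow_eq_one
    rw [← map_pow, show (⟨x, hx⟩ : K) ^ p ^ n = 1 from Subtype.ext hn, map_one]
  have h2 : orderOf (f ⟨x, hx⟩) ∣ R.relIndex K := by
    rw [relIndex, index_eq_card]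
    exact orderOf_dvd_natCard _
  have h3 := Nat.eq_one_of_dvd_coprimes (Nat.Coprime.pow_left n ((hp.coprime_iff_not_dvd).2 hi)) h1 h2
  rw [orderOf_eq_one_iff] at h3
  exact mem_subgroupOf.1 ((QuotientGroup.eq_one_iff _).1 h3)

omit [Fact p.Prime] in
/-- A normal Sylow subgroup of a normalised subgroup is normalised. -/
theorem le_normalizer_of_normal_sylow {R K S : Subgroup G} (hp : p.Prime) (hRK : R ≤ K)
    (hK : K ≤ normalizer (R : Set G)) (hi : ¬ p ∣ R.relIndex K) (hR : IsPGroup p R)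
    (hS : S ≤ normalizer (K : Set G)) : S ≤ normalizer (R : Set G) := by
  refine CLarge.le_normalizer_of_forall fun s hs r hr => ?_
  obtain ⟨n, hn⟩ := hR ⟨r, hr⟩
  refine mem_of_normal_sylow hp hRK hK hi (CLarge.conj_mem (hS hs) (hRK hr)) (n := n) ?_
  rw [← MulAut.conj_apply, ← map_pow, show r ^ p ^ n = 1 from congrArg Subtype.val hn, map_one]

omit [Fact p.Prime] in
/-- The hypothesis on the Sylow subgroups. -/
def SylowClosed (E : Subgroup G) : Prop :=
  ∀ (p : ℕ), p.Prime → ∀ P : Subgroup G, P ≤ E → IsPGroup p P → ¬ p ∣ P.relIndex E → ¬ IsCyclic P →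
    ∃ D : Subgroup G, D ≤ P ∧ 1 < Nat.card D ∧ Nat.card D < Nat.card P ∧
      ∀ F : Subgroup G, F ≤ P → (Nat.card F = Nat.card D ∨ (Nat.card D = 2 ∧ Nat.card F = 4)) →
        ∀ g : G, F.map (MulAut.conj g).toMonoidHom ⊓ normalizer (F : Set G) ≤ F

omit [Fact p.Prime] in
theorem exists_normal_sylow : ∀ E : Subgroup G, SylowClosed E → E ≠ ⊥ →
    ∃ (q : ℕ) (R : Subgroup G), q.Prime ∧ R ≤ E ∧ R ≠ ⊥ ∧ IsPGroup q R ∧ ¬ q ∣ R.relIndex E ∧
      E ≤ normalizer (R : Set G) := by
  intro E
  induction hc : Nat.card E using Nat.strong_induction_on generalizing E with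
  | _ n ih =>
  subst hc
  intro hE hE1
  have h1 := (one_lt_card_iff_ne_bot E).2 hE1
  set p := (Nat.card E).minFac
  have hp : p.Prime := Nat.minFac_prime (by omega)
  have : Fact p.Prime := ⟨hp⟩
  obtain ⟨P⟩ : Nonempty (Sylow p E) := inferInstance
  have hmin : ∀ q : ℕ, q.Prime → q ∣ Nat.card E → p ≤ q := fun q hq hd =>
    Nat.minFac_le_of_dvd hq.two_le hd
  have hPi : ¬ p ∣ ((P : Subgroup E).map E.subtype).relIndex E := by
    rw [relIndex, subgroupOf, comap_map_eq_self_of_injective E.subtype_injective]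
    exact P.not_dvd_index
  have hnc : Cfsg.HasNormalPComplement p E := by
    by_cases hcy : IsCyclic (P : Subgroup E)
    · exact hasNormalPComplement_of_cyclic P hmin
    set P' := (P : Subgroup E).map E.subtype
    have hP'c : ¬ IsCyclic P' := fun h => hcy
      (isCyclic_of_injective ((equivMapOfInjective _ _ E.subtype_injective).toMonoidHom)
        (MulEquiv.injective _))
    obtain ⟨D, hDP, hD1, hDlt, hH⟩ := hE p hp P' (map_subtype_le _) (P.2.map _) hPi hP'c
    obtain ⟨k, hk⟩ := ((P.2.map E.subtype).to_le hDP).exists_card_eq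
    have hk1 : 1 ≤ k := by
      by_contra h0
      rw [show k = 0 by omega, pow_zero] at hk
      omega
    refine hasNormalPComplement_of_hsubgroups P hmin hk1 ?_ fun F hFP hF g => ?_
    · rw [← hk, ← card_map_of_injective E.subtype_injective]
      exact hDlt
    rintro y ⟨⟨a, ha, rfl⟩, hy⟩
    have hcard : Nat.card (F.map E.subtype) = Nat.card F := card_map_of_injective E.subtype_injective
    obtain ⟨w, hw, e⟩ := hH (F.map E.subtype) (map_mono hFP) (by
        rw [hcard, hk]
        rcases hF with hF | ⟨h2, hk', hF⟩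
        · exact Or.inl hF
        · exact Or.inr ⟨by rw [h2, hk', pow_one], hF⟩) (g : G)
      (show ((g * a * g⁻¹ : E) : G) ∈ _ from
        ⟨⟨(a : G), ⟨a, ha, rfl⟩, by simp⟩, le_normalizer_map E.subtype ⟨_, hy, rfl⟩⟩)
    have he : w = g * a * g⁻¹ := Subtype.ext e
    rw [he] at hw
    exact hw
  obtain ⟨P0, N, hNn, hcompl⟩ := hnc
  have hNc : (Nat.card N).Coprime p := by
    rw [← hcompl.index_eq_card, Nat.coprime_comm, hp.coprime_iff_not_dvd]
    exact P0.not_dvd_index
  have hNi : ∃ j, N.index = p ^ j := by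
    rw [hcompl.symm.index_eq_card]
    exact P0.2.exists_card_eq
  set K := N.map E.subtype
  have hKE : K ≤ E := map_subtype_le _
  have hKc : Nat.card K = Nat.card N := card_map_of_injective E.subtype_injective
  rcases eq_or_ne K ⊥ with hK | hK
  · -- `E` is a `p`-group
    refine ⟨p, E, hp, le_rfl, hE1, ?_, by rw [relIndex_self]; exact hp.not_dvd_one, le_normalizer⟩
    obtain ⟨j, hj⟩ := hNi
    refine IsPGroup.of_card (n := j) ?_
    rw [← N.card_mul_index, ← hKc, hK, card_bot, one_mul, hj]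
  have hlt : Nat.card K < Nat.card E := by
    rw [hKc]
    refine lt_of_le_of_ne (Nat.le_of_dvd Nat.card_pos N.card_subgroup_dvd_card) fun h => ?_
    rw [Nat.Coprime, h] at hNc
    exact hp.ne_one (Nat.eq_one_of_dvd_coprimes hNc (Nat.minFac_dvd _) dvd_rfl)
  have hrel : K.relIndex E = N.index := by
    rw [relIndex, subgroupOf, comap_map_eq_self_of_injective E.subtype_injective]
  have hEK : E ≤ normalizer (K : Set G) :=
    (normal_subgroupOf_iff_le_normalizer hKE).1 (by rwa [subgroupOf, comap_map_eq_self_of_injective E.subtype_injective])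
  have hK' : SylowClosed K := by
    intro r hr R hRK hR hRi hRc
    refine hE r hr R (hRK.trans hKE) hR ?_ hRc
    rw [← relIndex_mul_relIndex R K E hRK hKE, hr.dvd_mul]
    rintro (h | h)
    · exact hRi h
    · obtain ⟨j, hj⟩ := hNi
      rw [hrel, hj] at h
      obtain rfl := (Nat.prime_dvd_prime_iff_eq hr hp).1 (hr.dvd_of_dvd_pow h)
      refine hRc ?_
      obtain ⟨i, hi⟩ := hR.exists_card_eq
      have h2 : Nat.card R ∣ Nat.card N := hKc ▸ card_dvd_of_le hRK
      have h3 : Nat.card R = 1 := Nat.eq_one_of_dvd_coprimes (Nat.Coprime.pow_right i hNc) h2 (hi ▸ dvd_rfl)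
      have := (Nat.card_eq_one_iff_unique.1 h3).1
      infer_instance
  obtain ⟨q, R, hq, hRK, hR1, hR, hRi, hKR⟩ := ih _ hlt K rfl hK' hK
  refine ⟨q, R, hq, hRK.trans hKE, hR1, hR, ?_, le_normalizer_of_normal_sylow hq hRK hKR hRi hR hEK⟩
  rw [← relIndex_mul_relIndex R K E hRK hKE, hq.dvd_mul]
  rintro (h | h)
  · exact hRi h
  · obtain ⟨j, hj⟩ := hNi
    rw [hrel, hj] at h
    obtain rfl := (Nat.prime_dvd_prime_iff_eq hq hp).1 (hq.dvd_of_dvd_pow h)
    obtain ⟨i, hi⟩ := hR.exists_card_eq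
    have h2 : Nat.card R ∣ Nat.card N := hKc ▸ card_dvd_of_le hRK
    exact hR1 (eq_bot_of_card_eq _ (Nat.eq_one_of_dvd_coprimes (Nat.Coprime.pow_right i hNc) h2 (hi ▸ dvd_rfl)))

omit [Fact p.Prime] in
/-- The hypothesis passes to the quotient by a normal Sylow subgroup. -/
theorem SylowClosed.quotient {E Q : Subgroup G} (hE : SylowClosed E) [Q.Normal] {q : ℕ}
    (hq : q.Prime) (hQE : Q ≤ E) (hQ : IsPGroup q Q) (hQi : ¬ q ∣ Q.relIndex E) :
    SylowClosed (E.map (QuotientGroup.mk' Q)) := by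
  intro r hr P' hP'E hP' hP'i hP'c
  set f := QuotientGroup.mk' Q with hf
  have hsurj := QuotientGroup.mk'_surjective Q
  have hker : f.ker = Q := QuotientGroup.ker_mk' Q
  have : Fact r.Prime := ⟨hr⟩
  have : Fact q.Prime := ⟨hq⟩
  have hrq : r ≠ q := by
    rintro rfl
    apply hP'c
    obtain ⟨i, hi⟩ := hP'.exists_card_eq
    have h2 : Nat.card P' ∣ Q.relIndex E := by
      have h := relIndex_ker f (K := E)
      rw [hker] at h
      rw [h]
      exact card_dvd_of_le hP'E
    have h3 : Nat.card P' = 1 := by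
      rcases Nat.eq_zero_or_pos i with h0 | h0
      · rw [hi, h0, pow_zero]
      · exact absurd ((hi ▸ dvd_pow_self r h0.ne').trans h2) hQi
    have := (Nat.card_eq_one_iff_unique.1 h3).1
    infer_instance
  have : Fact r.Prime := ⟨hr⟩
  obtain ⟨qi, hqi⟩ := hQ.exists_card_eq
  have hcop : (Nat.card Q).Coprime r := hqi ▸ Nat.Coprime.pow_left _ ((Nat.coprime_primes hq hr).2 hrq.symm)
  have hC : ∀ F' : Subgroup (G ⧸ Q), ∀ S : Subgroup G, S ≤ F'.comap f → IsPGroup r S →
      Nat.card (S.map f) = Nat.card S := by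
    intro F' S _ hS
    exact SolvBasic.card_map_mk'_of_inf_eq_bot (by rw [inf_comm]; exact PBasic.inf_eq_bot_of_coprime hcop hS)
  set C := P'.comap f with hCdef
  have hCE : C ≤ E := (comap_mono hP'E).trans (by rw [comap_map_eq, hker, sup_of_le_left hQE])
  obtain ⟨S⟩ : Nonempty (Sylow r C) := inferInstance
  set P := (S : Subgroup C).map C.subtype with hPdef
  have hPC : P ≤ C := map_subtype_le _
  have hP : IsPGroup r P := S.2.map _
  have hPCi : ¬ r ∣ P.relIndex C := by
    rw [relIndex, subgroupOf, comap_map_eq_self_of_injective C.subtype_injective]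
    exact S.not_dvd_index
  have hPi : ¬ r ∣ P.relIndex E := by
    rw [← relIndex_mul_relIndex P C E hPC hCE, hr.dvd_mul]
    rintro (h | h)
    · exact hPCi h
    · rw [hCdef, relIndex_comap] at h
      exact hP'i h
  have hPmap : P.map f = P' := by
    refine eq_of_le_of_card_ge (map_le_iff_le_comap.2 hPC) ?_
    rw [hC P' P hPC hP]
    obtain ⟨a, ha⟩ := hP'.exists_card_eq
    obtain ⟨b, hb⟩ := hP.exists_card_eq
    have h1 := PBasic.card_mul_relIndex hPC
    have h2 : Nat.card P' ∣ Nat.card C := by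
      conv_lhs => rw [← map_comap_eq_self_of_surjective hsurj P']
      exact card_map_dvd _ _
    rw [ha, hb] at *
    have h3 : r ^ a ∣ r ^ b := by
      rw [← h1] at h2
      exact (Nat.Coprime.pow_left a (hr.coprime_iff_not_dvd.2 hPCi)).dvd_of_dvd_mul_right h2
    exact Nat.le_of_dvd (pow_pos hr.pos b) h3
  have hPc : ¬ IsCyclic P := fun h => hP'c (hPmap ▸
    isCyclic_of_surjective (f.subgroupMap P) (MonoidHom.subgroupMap_surjective f P))
  obtain ⟨D, hDP, hD1, hDlt, hH⟩ := hE r hr P (hPC.trans hCE) hP hPi hPc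
  refine ⟨D.map f, hPmap ▸ map_mono hDP, ?_, ?_, fun F' hF'P hF' g' => ?_⟩
  · rwa [hC P' D (hDP.trans hPC) (hP.to_le hDP)]
  · rwa [hC P' D (hDP.trans hPC) (hP.to_le hDP), ← hPmap, hC P' P hPC hP]
  rw [hC P' D (hDP.trans hPC) (hP.to_le hDP)] at hF'
  set F := F'.comap f ⊓ P with hFdef
  have hFmap : F.map f = F' := by
    refine le_antisymm ((map_mono inf_le_left).trans (map_comap_le _ _)) fun y hy => ?_
    obtain ⟨a, ha, rfl⟩ := (hPmap ▸ hF'P hy : y ∈ P.map f)
    exact ⟨a, ⟨hy, ha⟩, rfl⟩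
  have hFcard : Nat.card F = Nat.card F' := by
    rw [← hC F' F inf_le_left (hP.to_le inf_le_right), hFmap]
  have hFH := hH F inf_le_right (by rwa [hFcard])
  obtain ⟨g, rfl⟩ := hsurj g'
  rintro y ⟨⟨a', ha', rfl⟩, hy⟩
  obtain ⟨a, ha, rfl⟩ := (hFmap ▸ ha' : a' ∈ F.map f)
  set W := F'.comap f with hW
  obtain ⟨x, hx⟩ : ∃ x, x = g * a * g⁻¹ := ⟨_, rfl⟩
  have hxW : x ∈ normalizer (W : Set G) := by
    refine mem_normalizer_iff.2 fun h => ?_
    have := (mem_normalizer_iff.1 hy (f h))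
    rw [hx]
    simp only [W, mem_comap, map_mul, map_inv]
    simpa [hf] using this
  set L := normalizer (W : Set G)
  have hFL : F ≤ L := inf_le_left.trans le_normalizer
  have hxr : IsPGroup r (zpowers x) := by
    have h0 : zpowers x = (zpowers a).map (MulAut.conj g).toMonoidHom := by
      rw [MonoidHom.map_zpowers, hx]; rfl
    rw [h0]
    exact ((hP.to_le inf_le_right).to_le (zpowers_le.2 ha)).map _
  obtain ⟨S1, hS1⟩ := ((hP.to_le (inf_le_right : F ≤ P)).comap_subtype (K := L)).exists_le_sylow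
  obtain ⟨S2, hS2⟩ := (hxr.comap_subtype (K := L)).exists_le_sylow
  obtain ⟨l, hl⟩ := MulAction.exists_smul_eq L S1 S2
  have hxS : (⟨x, hxW⟩ : L) ∈ (l • S1 : Sylow r L) := hl ▸ hS2 (mem_subgroupOf.2 (mem_zpowers x))
  change (⟨x, hxW⟩ : L) ∈ ((l • S1 : Sylow r L) : Subgroup L) at hxS
  rw [Sylow.coe_subgroup_smul, mem_pointwise_smul_iff_inv_smul_mem] at hxS
  set z := l⁻¹ * ⟨x, hxW⟩ * l with hz
  have hzS : z ∈ (S1 : Subgroup L) := by
    simpa [hz, MulAut.smul_def] using hxS
  -- the Sylow subgroup through `F` normalises it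
  have hS1F : (S1 : Subgroup L).map L.subtype ≤ normalizer (F : Set G) := by
    set S := (S1 : Subgroup L).map L.subtype
    have hSW : S ⊓ W = F := by
      refine (eq_of_le_of_card_ge (le_inf
        (fun b (hb : b ∈ F) => mem_map.2 ⟨⟨b, hFL hb⟩, hS1 (mem_subgroupOf.2 hb), rfl⟩)
        (inf_le_left : F ≤ W)) ?_).symm
      rw [← hC F' (S ⊓ W) inf_le_right ((S1.2.map L.subtype).to_le inf_le_left), hFcard]
      exact card_le_of_le ((map_mono inf_le_right).trans (map_comap_le _ _))
    rw [← hSW]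
    exact CLarge.le_normalizer_inf' le_normalizer (map_subtype_le _)
  have hzN : ((z : L) : G) ∈ normalizer (F : Set G) := hS1F ⟨z, hzS, rfl⟩
  have hzF : ((z : L) : G) ∈ F := by
    refine hFH ((l : G)⁻¹ * g) ⟨⟨a, ha, ?_⟩, hzN⟩
    simp [hz, hx, mul_assoc]
  have hxW' : x ∈ W := by
    have := CLarge.conj_mem (show (l : G) ∈ normalizer (W : Set G) from l.2) ((inf_le_left : F ≤ W) hzF)
    simpa [hz, mul_assoc] using this
  rw [hx] at hxW'
  simpa [W, hf] using hxW'

omit [Fact p.Prime] in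
/-- The supersolvable embedding, in inductive form. -/
theorem supersolvable_of_pResidual_trivial : ∀ (n : ℕ) (G : Type u) [Group G] [Finite G],
    Nat.card G ≤ n → ∀ (p : ℕ) [Fact p.Prime] (Q : Subgroup G) [Q.Normal], IsPGroup p Q →
    Cfsg.IsSupersolvable (G ⧸ Q) →
    (∀ x ∈ commutator G, (orderOf x).Coprime p → x ∈ centralizer (Q : Set G)) →
    (∀ g : G, (orderOf g).Coprime p → g ^ (p - 1) ∈ centralizer (Q : Set G)) →
    Cfsg.IsSupersolvable G := by
  intro n
  induction n with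
  | zero => intro G _ _ h; exact absurd h (Nat.not_le.2 Nat.card_pos)
  | succ n ih =>
  intro G _ _ hcard p _ Q _ hQ hsup hA hB
  have hp : p.Prime := Fact.out
  rcases eq_or_ne Q ⊥ with hQ1 | hQ1
  · subst hQ1
    exact SupSolv.of_injective (f := QuotientGroup.mk' (⊥ : Subgroup G))
      ((MonoidHom.ker_eq_bot_iff _).1 (QuotientGroup.ker_mk' _)) hsup
  -- a minimal normal subgroup of central elements of order `p`
  have hex : ∃ N : Subgroup G, (N.Normal ∧ N ≠ ⊥ ∧ N ≤ Q ∧ (∀ v ∈ N, v ^ p = 1 ∧ v ∈ centralizer (Q : Set G))) := by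
    let Z : Subgroup G :=
      { carrier := {v | v ∈ Q ∧ v ^ p = 1 ∧ v ∈ centralizer (Q : Set G)}
        one_mem' := ⟨one_mem _, one_pow _, one_mem _⟩
        inv_mem' := fun {a} ⟨h1, h2, h3⟩ => ⟨inv_mem h1, by rw [inv_pow, h2, inv_one], inv_mem h3⟩
        mul_mem' := fun {a b} ⟨h1, h2, h3⟩ ⟨h4, h5, h6⟩ => ⟨mul_mem h1 h4, by
          rw [Commute.mul_pow (show Commute a b from (mem_centralizer_iff.1 h3 b h4).symm), h2, h5, mul_one],
          mul_mem h3 h6⟩ }
    refine ⟨Z, ⟨fun v hv g => ⟨‹Q.Normal›.conj_mem v hv.1 g, ?_, ?_⟩⟩, ?_, fun v hv => hv.1, fun v hv => hv.2⟩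
    · rw [← MulAut.conj_apply, ← map_pow, hv.2.1, map_one]
    · have hn : (centralizer (Q : Set G)).Normal := inferInstance
      exact hn.conj_mem v hv.2.2 g
    · have := (nontrivial_iff_ne_bot Q).2 hQ1
      have := hQ.center_nontrivial
      obtain ⟨k, hk⟩ := (hQ.to_subgroup (center Q)).exists_card_eq
      have hk0 : k ≠ 0 := fun h => by
        have := Finite.one_lt_card (α := center Q)
        rw [hk, h, pow_zero] at this
        omega
      obtain ⟨w, hw⟩ := exists_prime_orderOf_dvd_card' (G := center Q) p (hk ▸ dvd_pow_self p hk0)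
      intro hZ
      have hwZ : ((w : Q) : G) ∈ Z := ⟨(w : Q).2, by
        rw [← hw, ← orderOf_coe, ← orderOf_coe]; exact pow_orderOf_eq_one _,
        mem_centralizer_iff.2 fun b hb => congrArg Subtype.val (mem_center_iff.1 w.2 ⟨b, hb⟩)⟩
      rw [hZ, mem_bot] at hwZ
      have : orderOf w = 1 := by rw [← orderOf_coe, ← orderOf_coe, hwZ, orderOf_one]
      exact hp.ne_one (hw.symm.trans this)
  obtain ⟨N, hN⟩ := exists_minimal_of_wellFoundedLT (P := fun N : Subgroup G =>
    N.Normal ∧ N ≠ ⊥ ∧ N ≤ Q ∧ (∀ v ∈ N, v ^ p = 1 ∧ v ∈ centralizer (Q : Set G))) hex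
  obtain ⟨⟨hNn, hN1, hNQ, hNz⟩, hmin⟩ := hN
  have hNp := hQ.to_le hNQ
  have hsubN : ∀ X : Subgroup G, X.Normal → X ≤ N → X ≠ ⊥ → N ≤ X := fun X hXn hXN hX1 =>
    hmin ⟨hXn, hX1, hXN.trans hNQ, fun v hv => hNz v (hXN hv)⟩ hXN
  have hNnorm : ∀ S : Subgroup G, S ≤ normalizer (N : Set G) := fun S => by
    rw [normalizer_eq_top_iff.2 hNn]; exact le_top
  -- a `p`-group acting on `N` has a fixed point
  have hfix : ∀ S : Subgroup G, IsPGroup p S → N ⊓ centralizer (S : Set G) ≠ ⊥ := by
    intro S hS h0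
    have hTp : IsPGroup p (S ⊔ N : Subgroup G) := hS.to_sup_of_normal_right' hNp (hNnorm S)
    set T := S ⊔ N
    have := hTp.isNilpotent
    have : (N.subgroupOf T).Normal := hNn.subgroupOf T
    have h1 : N.subgroupOf T ≠ ⊥ := fun h => hN1 (by
      rw [subgroupOf_eq_bot, disjoint_iff, inf_eq_left.2 le_sup_right] at h; exact h)
    obtain ⟨w, ⟨hwN, hwc⟩, hw1⟩ := (bot_or_exists_ne_one _).resolve_left (SolvStruct.inf_center_ne_bot h1)
    have : (w : G) ∈ N ⊓ centralizer (S : Set G) := ⟨mem_subgroupOf.1 hwN,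
      mem_centralizer_iff.2 fun b hb => congrArg Subtype.val (mem_center_iff.1 hwc ⟨b, mem_sup_left hb⟩)⟩
    rw [h0, mem_bot] at this
    exact hw1 (Subtype.ext this)
  -- the derived group centralises `N`
  have hG'N : commutator G ≤ centralizer (N : Set G) := by
    obtain ⟨S⟩ : Nonempty (Sylow p (commutator G)) := inferInstance
    set T := (S : Subgroup (commutator G)).map (commutator G).subtype
    have h1 := hfix T (S.2.map _)
    have hW : N ⊓ centralizer (commutator G : Set G) ≠ ⊥ := by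
      intro h0
      apply h1
      rw [← h0]
      refine le_antisymm (fun v hv => ⟨hv.1, mem_centralizer_iff.2 fun c hc => ?_⟩)
        (inf_le_inf_left _ (centralizer_le (map_subtype_le _)))
      set K := (centralizer ({v} : Set G)).subgroupOf (commutator G)
      have hpr : Cfsg.pResidual p (commutator G) ≤ K := (closure_le _).2 fun y hy =>
        mem_subgroupOf.2 (mem_centralizer_singleton_iff.2 (mem_centralizer_iff.1
          (hA y y.2 (by rwa [orderOf_coe])) v (hNQ hv.1)).symm)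
      have hSK : (S : Subgroup (commutator G)) ≤ K := fun y hy => mem_subgroupOf.2
        (mem_centralizer_singleton_iff.2 (mem_centralizer_iff.1 hv.2 y ⟨y, hy, rfl⟩))
      have htop := PBasic.sylow_sup_eq_top S (PBasic.quotient_pResidual_isPGroup p (commutator G))
      have hK : K = ⊤ := top_le_iff.1 (htop ▸ sup_le hSK hpr)
      exact mem_centralizer_singleton_iff.1 (mem_subgroupOf.1 (hK.ge (mem_top (⟨c, hc⟩ : commutator G))))
    have hle := hsubN (N ⊓ centralizer (commutator G : Set G)) inferInstance inf_le_left hW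
    exact le_centralizer_iff.1 (hle.trans inf_le_right)
  have hswap : ∀ g h : G, ∀ v ∈ N, g * (h * v * h⁻¹) * g⁻¹ = h * (g * v * g⁻¹) * h⁻¹ := by
    intro g h v hv
    have hc : (h * g)⁻¹ * (g * h) ∈ commutator G := by
      rw [show (h * g)⁻¹ * (g * h) = g⁻¹ * h⁻¹ * g⁻¹⁻¹ * h⁻¹⁻¹ by simp [mul_assoc]]
      exact commutator_mem_commutator (mem_top _) (mem_top _)
    calc g * (h * v * h⁻¹) * g⁻¹
        = (h * g) * (((h * g)⁻¹ * (g * h)) * v * ((h * g)⁻¹ * (g * h))⁻¹) * (h * g)⁻¹ := by group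
      _ = _ := by rw [← mem_centralizer_iff.1 (hG'N hc) v hv]; group
  -- `p`-elements fix `N`, and the `(p - 1)`-st powers fix it
  have hpel : ∀ u : G, (∃ j, orderOf u = p ^ j) → ∀ v ∈ N, u * v = v * u := by
    rintro u ⟨j, hj⟩ v hv
    let X : Subgroup G := N ⊓ centralizer ({u} : Set G)
    have hXn : X.Normal := ⟨fun w hw h => ⟨hNn.conj_mem w hw.1 h, mem_centralizer_singleton_iff.2
      (eq_mul_inv_iff_mul_eq.1 (show h * w * h⁻¹ = u * (h * w * h⁻¹) * u⁻¹ by
        rw [hswap u h w hw.1, ← mem_centralizer_singleton_iff.1 hw.2, mul_inv_cancel_right]))⟩⟩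
    have hX1 : X ≠ ⊥ := by
      intro h0
      apply hfix (zpowers u) (IsPGroup.of_card (n := j) (by rw [Nat.card_zpowers, hj]))
      rw [← h0, zpowers_eq_closure, centralizer_closure]
    exact (mem_centralizer_singleton_iff.1 (hsubN X hXn inf_le_left hX1 hv).2).symm
  have hpow : ∀ g : G, ∀ v ∈ N, g ^ (p - 1) * v * (g ^ (p - 1))⁻¹ = v := by
    intro g v hv
    obtain ⟨u, w, huw, hu, hw, hj, hwp⟩ := PBasic.exists_pPart_mul (p := p) g
    obtain ⟨iu, hiu⟩ := mem_zpowers_iff.1 hu
    obtain ⟨iw, hiw⟩ := mem_zpowers_iff.1 hw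
    have hc : Commute u w := hiu ▸ hiw ▸ (Commute.refl g).zpow_zpow iu iw
    rw [← huw, hc.mul_pow, mul_inv_eq_iff_eq_mul, mul_assoc]
    have h1 : Commute (u ^ (p - 1)) v := (show Commute u v from hpel u hj v hv).pow_left _
    have h2 : Commute (w ^ (p - 1)) v := (mem_centralizer_iff.1 (hB w hwp) v (hNQ hv)).symm
    rw [h2.eq, ← mul_assoc, h1.eq, mul_assoc]
  have hab : IsMulCommutative N :=
    ⟨⟨fun x y => Subtype.ext (mem_centralizer_iff.1 (hNz y y.2).2 x (hNQ x.2))⟩⟩
  have hscal : ∀ g : G, ∃ k : ℕ, ∀ v ∈ N, g * v * g⁻¹ = v ^ k := by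
    intro g
    obtain ⟨v, hv, hv1, k, hk⟩ := SupSolv.exists_eigenvector hN1 (fun v hv => (hNz v hv).1)
      (g := g) (by rw [normalizer_eq_top_iff.2 hNn]; exact mem_top g) (hpow g)
    let X : Subgroup G :=
      { carrier := {w | w ∈ N ∧ g * w * g⁻¹ = w ^ k}
        one_mem' := ⟨one_mem _, by simp⟩
        inv_mem' := fun {a} ⟨h1, h2⟩ => ⟨inv_mem h1, by rw [inv_pow, ← h2]; group⟩
        mul_mem' := fun {a b} ⟨h1, h2⟩ ⟨h3, h4⟩ => ⟨mul_mem h1 h3, by
          rw [Commute.mul_pow (setLike_mul_comm (s := N) h1 h3), ← h2, ← h4]; group⟩ }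
    have hXn : X.Normal := ⟨fun w hw h => ⟨hNn.conj_mem w hw.1 h, by
      rw [hswap g h w hw.1, hw.2, conj_pow]⟩⟩
    have hX1 : X ≠ ⊥ := fun h0 => hv1 (by
      have : v ∈ X := ⟨hv, hk⟩
      rw [h0, mem_bot] at this
      exact this)
    exact ⟨k, fun w hw => (hsubN X hXn (fun w hw => hw.1) hX1 hw).2⟩
  have hcyc : IsCyclic N := by
    obtain ⟨v, hv, hv1⟩ := N.bot_or_exists_ne_one.resolve_left hN1
    have hn : (zpowers v).Normal := ⟨fun w hw g => by
      obtain ⟨i, rfl⟩ := mem_zpowers_iff.1 hw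
      obtain ⟨k, hk⟩ := hscal g
      rw [hk _ (zpow_mem hv i)]
      exact pow_mem (zpow_mem (mem_zpowers v) i) k⟩
    have h := le_antisymm (zpowers_le.2 hv) (hsubN _ hn (zpowers_le.2 hv) (fun h => hv1 (zpowers_eq_bot.1 h)))
    rw [← h]
    infer_instance
  -- pass to the quotient
  refine SupSolv.of_cyclic_normal N ?_
  set f := QuotientGroup.mk' N
  have hsurj := QuotientGroup.mk'_surjective N
  have : (Q.map f).Normal := ‹Q.Normal›.map f hsurj
  have hlift : ∀ a : G, (orderOf (f a)).Coprime p →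
      ∃ w : G, w ∈ zpowers a ∧ (orderOf w).Coprime p ∧ f w = f a := by
    intro a ha
    obtain ⟨u, w, huw, hu, hw, ⟨j, hj⟩, hwp⟩ := PBasic.exists_pPart_mul (p := p) a
    refine ⟨w, hw, hwp, ?_⟩
    have h1 : f u ∈ zpowers (f a) := by rw [← MonoidHom.map_zpowers]; exact mem_map_of_mem f hu
    have h2 : f u = 1 := orderOf_eq_one_iff.1 (Nat.eq_one_of_dvd_coprimes (ha.pow_right j)
      (orderOf_dvd_of_mem_zpowers h1) (hj ▸ orderOf_map_dvd f u))
    rw [← huw, map_mul, h2, one_mul]
  have hcent : ∀ w ∈ centralizer (Q : Set G), f w ∈ centralizer (Q.map f : Set (G ⧸ N)) := by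
    intro w hw
    rw [mem_centralizer_iff]
    rintro _ ⟨b, hb, rfl⟩
    rw [← map_mul, ← map_mul, mem_centralizer_iff.1 hw b hb]
  refine ih (G ⧸ N) ?_ p (Q.map f) (hQ.map f) ?_ ?_ ?_
  · have := SupSolv.card_quotient_lt hN1
    omega
  · exact SupSolv.of_surjective (f := (QuotientGroup.quotientQuotientEquivQuotient N Q hNQ).symm.toMonoidHom)
      (MulEquiv.surjective _) hsup
  · intro x hx hxp
    have hx' : x ∈ (commutator G).map f := by
      rwa [_root_.commutator_def, map_commutator, map_top_of_surjective f hsurj, ← _root_.commutator_def]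
    obtain ⟨a, ha, rfl⟩ := hx'
    obtain ⟨w, hw, hwp, e⟩ := hlift a hxp
    exact e ▸ hcent w (hA w (zpowers_le.2 ha hw) hwp)
  · intro x hxp
    obtain ⟨a, rfl⟩ := hsurj x
    obtain ⟨w, hw, hwp, e⟩ := hlift a hxp
    rw [← e, ← map_pow]
    exact hcent _ (hB w hwp)

omit [Fact p.Prime] in
theorem supersolvable_of_sylowClosed : ∀ (n : ℕ) (G : Type u) [Group G] [Finite G],
    Nat.card G ≤ n → ∀ (E : Subgroup G) [E.Normal], Cfsg.IsSupersolvable (G ⧸ E) → SylowClosed E →
    Cfsg.IsSupersolvable G := by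
  intro n
  induction n with
  | zero => intro G _ _ h; exact absurd h (Nat.not_le.2 Nat.card_pos)
  | succ n ih =>
  intro G _ _ hcard E _ hGE hE
  rcases eq_or_ne E ⊥ with hE1 | hE1
  · subst hE1
    exact SupSolv.of_injective (f := QuotientGroup.mk' (⊥ : Subgroup G))
      ((MonoidHom.ker_eq_bot_iff _).1 (QuotientGroup.ker_mk' _)) hGE
  obtain ⟨q, R, hq, hRE, hR1, hR, hRi, hER⟩ := exists_normal_sylow E hE hE1
  have : Fact q.Prime := ⟨hq⟩
  have hRn : R.Normal := normalizer_eq_top_iff.1 (top_le_iff.1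
    (le_normalizer_of_normal_sylow hq hRE hER hRi hR (by rw [normalizer_eq_top_iff.2 ‹E.Normal›])))
  have : (E.map (QuotientGroup.mk' R)).Normal := ‹E.Normal›.map _ (QuotientGroup.mk'_surjective R)
  have hsup : Cfsg.IsSupersolvable (G ⧸ R) := by
    refine ih (G ⧸ R) ?_ (E.map (QuotientGroup.mk' R)) ?_ (hE.quotient hq hRE hR hRi)
    · have := SupSolv.card_quotient_lt hR1
      omega
    · exact SupSolv.of_surjective (f := (QuotientGroup.quotientQuotientEquivQuotient R E hRE).symm.toMonoidHom)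
        (MulEquiv.surjective _) hGE
  by_cases hcy : IsCyclic R
  · exact SupSolv.of_cyclic_normal R hsup
  obtain ⟨D, hDR, hD1, hDlt, hH⟩ := hE q hq R hRE hR hRi hcy
  obtain ⟨k, hk⟩ := (hR.to_le hDR).exists_card_eq
  have hk1 : 1 ≤ k := by
    by_contra h0
    rw [show k = 0 by omega, pow_zero] at hk
    omega
  have hnorm : ∀ F : Subgroup G, F ≤ R → (Nat.card F = q ^ k ∨ (q = 2 ∧ k = 1 ∧ Nat.card F = 4)) →
      F.Normal := by
    intro F hFR hF
    refine normal_of_closed hR hFR (hH F hFR ?_)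
    rcases hF with hF | ⟨h2, hk', hF⟩
    · exact Or.inl (hF.trans hk.symm)
    · exact Or.inr ⟨by rw [hk, h2, hk', pow_one], hF⟩
  have hNR : ∀ x : G, x ∈ normalizer (R : Set G) := fun x => by
    rw [normalizer_eq_top_iff.2 hRn]; exact mem_top x
  refine supersolvable_of_pResidual_trivial _ G le_rfl q R hR hsup (fun x hx hxp => ?_) fun g hg => ?_
  · exact centralizes_of_sections hR (hNR x) hxp (sections_of_mem_commutator hx) hk1 (hk ▸ hDlt) hnorm
  · exact centralizes_of_sections hR (hNR _) (hg.coprime_dvd_left (orderOf_pow_dvd _))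
      (sections_of_pow_pred hR hg) hk1 (hk ▸ hDlt) hnorm

end Cfsg.Agent.HSub
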